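import Groth.Agent.Deform.InfNbhd.Transporter
import Groth.Agent.S4599

/-!
# Centralizers and normalizers of smooth subgroups with connected fibres
-/

set_option autoImplicit false
set_option linter.style.haveILetI false
set_option backward.isDefEq.respectTransparency.types false

universe u

open CategoryTheory CategoryTheory.Limits MonoidalCategory CartesianMonoidalCategory MonObj GrpObj AlgebraicGeometry

attribute [local instance] CategoryTheory.Hom.monoid CategoryTheory.Hom.group

namespace Groth.Agent.Deform.InfNbhd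

variable {S : Scheme.{u}} (G H : Over S) [GrpObj G] [GrpObj H]
  [LocallyOfFiniteType G.hom] [QuasiSeparated G.hom] [Smooth H.hom] [QuasiCompact H.hom] [QuasiSeparated H.hom]

/-- A closed condition stable under products and inverses is a subgroup. -/
theorem exists_grpObj_of_key {T : Over S} (j : T ⟶ G) [Mono j] (Q : ∀ {X : Over S}, (X ⟶ G) → Prop)
    (key : ∀ (X : Over S) (g : X ⟶ G), (∃ z : X ⟶ T, z ≫ j = g) ↔ Q g) (h1 : Q η[G])
    (hmul : ∀ {X : Over S} (a b : X ⟶ G), Q a → Q b → Q (a * b)) (hinv : ∀ {X : Over S} (a : X ⟶ G), Q a → Q a⁻¹) :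
    ∃ str : GrpObj T, @IsMonHom (Over S) _ _ T G str.toMonObj _ j := by
  obtain ⟨e, he⟩ := (key _ η[G]).mpr h1
  obtain ⟨m, hm⟩ := (key _ ((fst T T ≫ j) * (snd T T ≫ j))).mpr
    (hmul _ _ ((key _ _).mp ⟨fst T T, rfl⟩) ((key _ _).mp ⟨snd T T, rfl⟩))
  obtain ⟨v, hv⟩ := (key _ j⁻¹).mpr (hinv _ ((key _ _).mp ⟨𝟙 T, Category.id_comp _⟩))
  exact GrpSchLib.exists_grpObj_of_mono j e he m hm v hv

/-- The centralizer of a smooth subgroup with connected fibres. -/
theorem exists_centralizer' (hH : SGA3x.neutralSet H = Set.univ) (i : H ⟶ G) [IsMonHom i] :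
    ∃ (Z : Over S) (_ : GrpObj Z) (j : Z ⟶ G), Red.IsCentralizerOf i j ∧ IsClosedImmersion j.left ∧
      LocallyOfFinitePresentation j.left := by
  let ii : H ⟶ G ⊗ G := lift i i
  let dd : G ⟶ G ⊗ G := lift (𝟙 G) (𝟙 G)
  haveI : IsMonHom ii :=
    { one_hom := by apply CartesianMonoidalCategory.hom_ext <;> simp [ii, IsMonHom.one_hom]
      mul_hom := by apply CartesianMonoidalCategory.hom_ext <;> simp [ii, IsMonHom.mul_hom] }
  haveI : IsMonHom dd :=
    { one_hom := by apply CartesianMonoidalCategory.hom_ext <;> simp [dd]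
      mul_hom := by apply CartesianMonoidalCategory.hom_ext <;> simp [dd] }
  haveI : Mono dd := ⟨fun a b h => by simpa [dd] using congrArg (· ≫ fst G G) h⟩
  have hdd : dd.left = pullback.diagonal G.hom := by
    apply pullback.hom_ext
    · rw [pullback.diagonal_fst]; exact congrArg CommaMorphism.left (lift_fst (𝟙 G) (𝟙 G))
    · rw [pullback.diagonal_snd]; exact congrArg CommaMorphism.left (lift_snd (𝟙 G) (𝟙 G))
  haveI : LocallyOfFinitePresentation dd.left := by rw [hdd]; exact S4599.result G.hom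
  haveI : QuasiCompact dd.left := by rw [hdd]; infer_instance
  haveI : QuasiSeparated dd.left := by rw [hdd]; infer_instance
  obtain ⟨T, t, ht, htf, hT⟩ := exists_transporter (G ⊗ G) H G hH ii dd
  haveI := ht
  haveI := htf
  let p : G ⟶ G ⊗ G := lift (𝟙 G) 1
  let Z := pullback p t
  let j : Z ⟶ G := pullback.fst p t
  have hsq : IsPullback j.left (pullback.snd p t).left p.left t.left :=
    (IsPullback.of_hasPullback p t).map (Over.forget S)
  haveI hjc : IsClosedImmersion j.left := MorphismProperty.of_isPullback hsq.flip ‹IsClosedImmersion t.left›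
  haveI hjf : LocallyOfFinitePresentation j.left :=
    MorphismProperty.of_isPullback hsq.flip ‹LocallyOfFinitePresentation t.left›
  haveI : Mono j := (Over.forget _).mono_of_mono_map (inferInstanceAs (Mono j.left))
  have key : ∀ (X : Over S) (g : X ⟶ G), (∃ z : X ⟶ Z, z ≫ j = g) ↔
      ∀ (X' : Over S) (x : X' ⟶ X) (h : X' ⟶ H), (x ≫ g) * (h ≫ i) = (h ≫ i) * (x ≫ g) := by
    intro X g
    have h0 : (∃ z : X ⟶ Z, z ≫ j = g) ↔ ∃ w, w ≫ t = g ≫ p :=
      ⟨fun ⟨z, hz⟩ => ⟨z ≫ pullback.snd p t, by rw [Category.assoc, ← pullback.condition, ← hz, Category.assoc]⟩,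
        fun ⟨w, hw⟩ => ⟨pullback.lift g w hw.symm, pullback.lift_fst _ _ _⟩⟩
    rw [h0, hT]
    refine forall_congr' fun X' => forall_congr' fun x => forall_congr' fun h => ⟨?_, fun hc => ⟨h ≫ i, ?_⟩⟩
    · rintro ⟨κ, hκ⟩
      have e1 := congrArg (· ≫ fst G G) hκ
      have e2 := congrArg (· ≫ snd G G) hκ
      simp only [MonObj.mul_comp, GrpObj.inv_comp, Category.assoc, p, ii, dd, lift_fst, lift_snd, Category.comp_id,
        MonObj.comp_one, _root_.one_mul, inv_one, _root_.mul_one] at e1 e2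
      rw [← e2] at e1
      exact mul_inv_eq_iff_eq_mul.mp e1
    · apply CartesianMonoidalCategory.hom_ext
      · simp only [MonObj.mul_comp, GrpObj.inv_comp, Category.assoc, p, ii, dd, lift_fst, Category.comp_id]
        rw [hc, mul_inv_cancel_right]
      · simp only [MonObj.mul_comp, GrpObj.inv_comp, Category.assoc, p, ii, dd, lift_snd, Category.comp_id,
          MonObj.comp_one, _root_.one_mul, inv_one, _root_.mul_one]
  obtain ⟨str, hmon⟩ := exists_grpObj_of_key G j
    (fun {X} g => ∀ (X' : Over S) (x : X' ⟶ X) (h : X' ⟶ H), (x ≫ g) * (h ≫ i) = (h ≫ i) * (x ≫ g))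
    key (fun X' x h => by
      rw [show x ≫ η[G] = (1 : X' ⟶ G) by rw [Hom.one_def, toUnit_unique x (toUnit _)], _root_.one_mul, _root_.mul_one])
    (fun a b ha hb X' x h => by rw [MonObj.comp_mul]; exact (Commute.mul_left (ha X' x h) (hb X' x h)).eq)
    (fun a ha X' x h => by rw [GrpObj.comp_inv]; exact (Commute.inv_left (ha X' x h)).eq)
  exact ⟨Z, str, j, ⟨hmon, inferInstance, key⟩, hjc, hjf⟩

/-- The normalizer of a smooth subgroup with connected fibres. -/
theorem exists_normalizer' (hH : SGA3x.neutralSet H = Set.univ) (i : H ⟶ G) [IsMonHom i] [Mono i] :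
    ∃ (N : Over S) (_ : GrpObj N) (j : N ⟶ G), Red.IsNormalizerOf i j ∧ IsClosedImmersion j.left ∧
      LocallyOfFinitePresentation j.left := by
  haveI : LocallyOfFinitePresentation (i.left ≫ G.hom) := by rw [Over.w i]; infer_instance
  haveI : QuasiCompact (i.left ≫ G.hom) := by rw [Over.w i]; infer_instance
  haveI : QuasiSeparated (i.left ≫ G.hom) := by rw [Over.w i]; infer_instance
  haveI : LocallyOfFinitePresentation i.left := AlgSpPts.locallyOfFinitePresentation_of_comp i.left G.hom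
  haveI : QuasiCompact i.left := QuasiCompact.of_comp i.left G.hom
  haveI : QuasiSeparated i.left := QuasiSeparated.of_comp i.left G.hom
  obtain ⟨T, t, ht, htf, hT⟩ := exists_transporter G H H hH i i
  haveI := ht
  haveI := htf
  let N := pullback t (t ≫ ι[G])
  let j : N ⟶ G := pullback.fst t (t ≫ ι[G]) ≫ t
  have hsq : IsPullback (pullback.fst t (t ≫ ι[G])).left (pullback.snd t (t ≫ ι[G])).left t.left (t ≫ ι[G]).left :=
    (IsPullback.of_hasPullback t (t ≫ ι[G])).map (Over.forget S)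
  haveI : IsIso ι[G].left := inferInstanceAs (IsIso ((Over.forget S).map ι[G]))
  haveI : IsClosedImmersion (t ≫ ι[G]).left := by rw [Over.comp_left]; infer_instance
  haveI : LocallyOfFinitePresentation (t ≫ ι[G]).left := by rw [Over.comp_left]; infer_instance
  haveI : IsClosedImmersion (pullback.fst t (t ≫ ι[G])).left :=
    MorphismProperty.of_isPullback hsq.flip ‹IsClosedImmersion (t ≫ ι[G]).left›
  haveI : LocallyOfFinitePresentation (pullback.fst t (t ≫ ι[G])).left :=
    MorphismProperty.of_isPullback hsq.flip ‹LocallyOfFinitePresentation (t ≫ ι[G]).left›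
  haveI hjc : IsClosedImmersion j.left := by rw [show j.left = _ ≫ _ from Over.comp_left _ _ _ _ _]; infer_instance
  haveI hjf : LocallyOfFinitePresentation j.left := by
    rw [show j.left = _ ≫ _ from Over.comp_left _ _ _ _ _]; infer_instance
  haveI : Mono j := (Over.forget _).mono_of_mono_map (inferInstanceAs (Mono j.left))
  let Q : ∀ {X : Over S}, (X ⟶ G) → Prop := fun {X} g => ∀ (X' : Over S) (x : X' ⟶ X) (h : X' ⟶ H),
      (∃ h' : X' ⟶ H, (x ≫ g) * (h ≫ i) * (x ≫ g)⁻¹ = h' ≫ i) ∧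
      (∃ h' : X' ⟶ H, (x ≫ g)⁻¹ * (h ≫ i) * (x ≫ g) = h' ≫ i)
  have key : ∀ (X : Over S) (g : X ⟶ G), (∃ z : X ⟶ N, z ≫ j = g) ↔ Q g := by
    intro X g
    have h0 : (∃ z : X ⟶ N, z ≫ j = g) ↔ (∃ a, a ≫ t = g) ∧ ∃ b, b ≫ t = g⁻¹ := by
      constructor
      · rintro ⟨z, rfl⟩
        refine ⟨⟨z ≫ pullback.fst _ _, Category.assoc _ _ _⟩, ⟨z ≫ pullback.snd _ _, ?_⟩⟩
        have h1 : pullback.snd t (t ≫ ι[G]) ≫ t = (pullback.fst t (t ≫ ι[G]) ≫ t)⁻¹ := by
          rw [pullback.condition, ← GrpObj.comp_inv, ← GrpObj.comp_inv, GrpObj.inv_eq_inv, _root_.inv_inv, Category.comp_id]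
        rw [Category.assoc, h1, GrpObj.comp_inv]
      · rintro ⟨⟨a, ha⟩, ⟨b, hb⟩⟩
        refine ⟨pullback.lift a b ?_, ?_⟩
        · rw [ha, ← Category.assoc, hb, GrpObj.inv_eq_inv, GrpObj.comp_inv, Category.comp_id, _root_.inv_inv]
        · rw [show j = _ ≫ t from rfl, pullback.lift_fst_assoc, ha]
    rw [h0, hT, hT]
    constructor
    · rintro ⟨h1, h2⟩ X' x h
      refine ⟨h1 X' x h, ?_⟩
      obtain ⟨h', hh'⟩ := h2 X' x h
      exact ⟨h', by simpa [GrpObj.comp_inv] using hh'⟩
    · intro hq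
      refine ⟨fun X' x h => (hq X' x h).1, fun X' x h => ?_⟩
      obtain ⟨h', hh'⟩ := (hq X' x h).2
      exact ⟨h', by simpa [GrpObj.comp_inv] using hh'⟩
  obtain ⟨str, hmon⟩ := exists_grpObj_of_key G j Q key
    (fun X' x h => by
      rw [show x ≫ η[G] = (1 : X' ⟶ G) by rw [Hom.one_def, toUnit_unique x (toUnit _)]]
      exact ⟨⟨h, by simp⟩, ⟨h, by simp⟩⟩)
    (fun a b ha hb X' x h => by
      refine ⟨?_, ?_⟩
      · obtain ⟨h1, e1⟩ := (hb X' x h).1
        obtain ⟨h2, e2⟩ := (ha X' x h1).1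
        refine ⟨h2, ?_⟩
        rw [← e2, ← e1, MonObj.comp_mul]
        group
      · obtain ⟨h1, e1⟩ := (ha X' x h).2
        obtain ⟨h2, e2⟩ := (hb X' x h1).2
        refine ⟨h2, ?_⟩
        rw [← e2, ← e1, MonObj.comp_mul]
        group)
    (fun a ha X' x h => by
      rw [GrpObj.comp_inv, _root_.inv_inv]
      exact ⟨(ha X' x h).2, (ha X' x h).1⟩)
  exact ⟨N, str, j, ⟨hmon, inferInstance, key⟩, hjc, hjf⟩

theorem neutralSet_eq_univ' (X : Over S) [GrpObj X]
    (hconn : ∀ s : S, ConnectedSpace ↥(pullback X.hom (S.fromSpecResidueField s))) :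
    SGA3x.neutralSet X = Set.univ :=
  neutralSet_eq_univ X fun s => by
    haveI := hconn s
    have := isConnected_range (pullback.fst X.hom (S.fromSpecResidueField s)).continuous
    rwa [show Set.range (pullback.fst X.hom (S.fromSpecResidueField s)) = X.hom.base ⁻¹' {s} from
      Scheme.Hom.range_fiberι X.hom s] at this

end Groth.Agent.Deform.InfNbhd
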