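import Groth.Agent.Deform.InfNbhd.Formal
import Groth.Agent.ConsPropLib.Approx
import Groth.Agent.ConsPropLib.NoethApprox
import Groth.Agent.ConsPropLib.Cores
import Groth.Agent.MorLib.DescendOpen
import Groth.Agent.LimSm.Core

/-!
# The formal locus over an arbitrary affine base, by noetherian approximation
-/

set_option autoImplicit false
set_option linter.style.haveILetI false
set_option backward.isDefEq.respectTransparency.types false

universe u

open CategoryTheory CategoryTheory.Limits AlgebraicGeometry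
open Groth.Agent.MorLib Groth.Agent.ConsPropLib

namespace Groth.Agent.Deform.InfNbhd

variable {S X Y : Scheme.{u}}

/-- `Formal` for the data base-changed to the locus itself. -/
theorem formal_baseChange (f : X ⟶ S) (i : Y ⟶ X) (e : S ⟶ Y) (he : e ≫ i ≫ f = 𝟙 S) {Z : Scheme.{u}} (z : Z ⟶ S)
    (h : Formal f i e z) :
    Formal (pullback.snd f z) (pullback.map (i ≫ f) z f z i (𝟙 _) (𝟙 _) (by simp) (by simp))
      (pullback.lift (z ≫ e) (𝟙 Z) (by rw [Category.assoc, he, Category.comp_id, Category.id_comp])) (𝟙 Z) := by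
  intro C _ J hJ c g hg hk
  obtain ⟨l, hl⟩ := h C J hJ c (g ≫ pullback.fst f z)
    (by rw [Category.assoc, pullback.condition, reassoc_of% hg])
    (by
      have h1 := congrArg (· ≫ pullback.fst f z) hk
      have hmap : pullback.map (i ≫ f) z f z i (𝟙 _) (𝟙 _) (by simp) (by simp) ≫ pullback.fst f z =
          pullback.fst (i ≫ f) z ≫ i := pullback.lift_fst _ _ _
      simp only [Category.assoc, Category.id_comp] at h1
      rw [hmap, pullback.lift_fst_assoc] at h1
      simpa only [Category.assoc] using h1)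
  refine ⟨pullback.lift l c ?_, ?_⟩
  · rw [reassoc_of% hl, pullback.condition, reassoc_of% hg]
  · apply pullback.hom_ext
    · refine (Category.assoc _ _ _).trans ?_
      refine (congrArg (_ ≫ ·) (pullback.lift_fst _ _ _)).trans ?_
      rw [pullback.lift_fst_assoc, hl]
    · refine (Category.assoc _ _ _).trans ?_
      refine (congrArg (_ ≫ ·) (pullback.lift_snd _ _ _)).trans ?_
      rw [pullback.lift_snd_assoc, hg, Category.comp_id]

/-- The locus, computed at a noetherian stage of a limit. -/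
theorem exists_locus_of_isLimit {J₀ : Type u} [SmallCategory J₀] [IsCofiltered J₀] {D : J₀ ⥤ Scheme.{u}}
    {c : Cone D} (hc : IsLimit c) [∀ {a b} (φ : a ⟶ b), IsAffineHom (D.map φ)] [∀ a, IsAffine (D.obj a)]
    [∀ a, IsNoetherian (D.obj a)] (f : X ⟶ c.pt) [Smooth f] [QuasiCompact f] [QuasiSeparated f]
    (i : Y ⟶ X) [Mono i] [LocallyOfFinitePresentation (i ≫ f)] [QuasiCompact (i ≫ f)] [QuasiSeparated (i ≫ f)]
    (e : c.pt ⟶ Y) (he : e ≫ i ≫ f = 𝟙 c.pt) :
    ∃ (Z₀ : Scheme.{u}) (z₀ : Z₀ ⟶ c.pt), IsClosedImmersion z₀ ∧ LocallyOfFinitePresentation z₀ ∧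
      (∀ (T : Scheme.{u}) (q : T ⟶ c.pt),
        IsIso (pullback.map (i ≫ f) q f q i (𝟙 _) (𝟙 _) (by simp) (by simp)) → ∃ w, w ≫ z₀ = q) ∧
      ∃ (U : (pullback f z₀).Opens) (l : (U : Scheme.{u}) ⟶ Y),
        l ≫ i = U.ι ≫ pullback.fst f z₀ ∧
          Set.range (pullback.lift (z₀ ≫ e ≫ i) (𝟙 _) (by simp [he]) : Z₀ ⟶ pullback f z₀) ⊆ U := by
  classical
  haveI : LocallyOfFinitePresentation f := inferInstance
  obtain ⟨i₀, X₀, f₀, qX₀, hX₀⟩ := ConsPropLib.hasModel hc f
  obtain ⟨i₁, Y₁, g₁, qY₁, hY₁⟩ := ConsPropLib.hasModel hc (i ≫ f)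
  -- a common stage
  let k := IsCofiltered.min i₀ i₁
  have hXk := hX₀.pushed (IsCofiltered.minToLeft i₀ i₁)
  have hYk := hY₁.pushed (IsCofiltered.minToRight i₀ i₁)
  generalize hqk : hX₀.push (IsCofiltered.minToLeft i₀ i₁) = qXk at hXk
  generalize hpk : hY₁.push (IsCofiltered.minToRight i₀ i₁) = qYk at hYk
  generalize hfk : pullback.snd f₀ (D.map (IsCofiltered.minToLeft i₀ i₁)) = fk at hXk
  generalize hgk : pullback.snd g₁ (D.map (IsCofiltered.minToRight i₀ i₁)) = gk at hYk
  haveI := hXk.lfp; haveI := hXk.qc; haveI := hXk.qs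
  haveI := hYk.lfp; haveI := hYk.qc; haveI := hYk.qs
  haveI := hXk.compactSpace; haveI := hXk.quasiSeparatedSpace
  haveI := hYk.compactSpace; haveI := hYk.quasiSeparatedSpace
  haveI : ∀ {a b : Over k} (φ : a ⟶ b), IsAffineHom ((BC.diag D gk).map φ) := fun φ =>
    BC.isAffineHom_map D gk φ
  haveI : ∀ a, CompactSpace ((BC.diag D gk).obj a) := fun a => BC.compactSpace_obj D gk a
  haveI : ∀ a, QuasiSeparatedSpace ((BC.diag D gk).obj a) := fun a => BC.quasiSeparatedSpace_obj D gk a
  -- descend the morphism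
  let t : BC.diag D gk ⟶ (Functor.const (Over k)).obj (D.obj k) :=
    { app := fun a => pullback.snd gk (D.map a.hom) ≫ D.map a.hom
      naturality := fun a b φ => by
        show (BC.diag D gk).map φ ≫ pullback.snd gk (D.map b.hom) ≫ D.map b.hom = _ ≫ 𝟙 _
        rw [Category.comp_id, reassoc_of% (BC.map_snd D gk φ)]
        exact (Category.assoc _ _ _).trans (congrArg (_ ≫ ·) ((D.map_comp _ _).symm.trans (congrArg D.map (Over.w φ)))) }
  have ha : (BC.cone D gk hYk.sq).π ≫ t = (Functor.const (Over k)).map ((i ≫ qXk) ≫ fk) := by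
    ext a
    show BC.proj D gk hYk.sq a ≫ pullback.snd gk (D.map a.hom) ≫ D.map a.hom = (i ≫ qXk) ≫ fk
    rw [BC.proj_snd_assoc, c.w]
    exact ((Category.assoc _ _ _).trans ((congrArg (i ≫ ·) hXk.sq.w).trans (Category.assoc _ _ _).symm)).symm
  obtain ⟨j, h, hh, hht⟩ := Scheme.exists_π_app_comp_eq_of_locallyOfFinitePresentation (BC.diag D gk) t fk
    (BC.cone D gk hYk.sq) (BC.isLimitCone D gk hYk.sq hc) (i ≫ qXk) ha
  replace hh : hYk.push j.hom ≫ h = i ≫ qXk := hh
  have hXj := hXk.pushed j.hom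
  have hYj := hYk.pushed j.hom
  let fj := pullback.snd fk (D.map j.hom)
  let gj := pullback.snd gk (D.map j.hom)
  let ij : pullback gk (D.map j.hom) ⟶ pullback fk (D.map j.hom) := pullback.lift h gj hht
  have hij : ij ≫ fj = gj := pullback.lift_snd _ _ _
  have hiq : hYk.push j.hom ≫ ij = i ≫ hXk.push j.hom := by
    apply pullback.hom_ext
    · rw [Category.assoc, Category.assoc, pullback.lift_fst, hh, hXk.push_fst]
    · rw [Category.assoc, Category.assoc, pullback.lift_snd, hYk.push_snd, hXk.push_snd]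
      exact Category.assoc _ _ _
  haveI := hXj.lfp; haveI := hXj.qc; haveI := hXj.qs
  haveI := hYj.lfp; haveI := hYj.qc; haveI := hYj.qs
  haveI := hXj.compactSpace; haveI := hXj.quasiSeparatedSpace
  haveI := hYj.compactSpace; haveI := hYj.quasiSeparatedSpace
  -- descend the section
  haveI : ∀ {a b : Over j.left} (φ : a ⟶ b), IsAffineHom ((Over.forget j.left ⋙ D).map φ) := fun φ =>
    inferInstanceAs (IsAffineHom (D.map φ.left))
  haveI : ∀ a, CompactSpace ((Over.forget j.left ⋙ D).obj a) := fun a => inferInstanceAs (CompactSpace (D.obj a.left))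
  haveI : ∀ a, QuasiSeparatedSpace ((Over.forget j.left ⋙ D).obj a) := fun a =>
    inferInstanceAs (QuasiSeparatedSpace (D.obj a.left))
  let t' : (Over.forget j.left ⋙ D) ⟶ (Functor.const (Over j.left)).obj (D.obj j.left) :=
    { app := fun a => D.map a.hom
      naturality := fun a b φ => by
        show D.map φ.left ≫ D.map b.hom = D.map a.hom ≫ 𝟙 _
        rw [Category.comp_id, ← D.map_comp, Over.w φ] }
  have ha' : (c.whisker (Over.forget j.left)).π ≫ t' =
      (Functor.const (Over j.left)).map ((e ≫ hYk.push j.hom) ≫ gj) := by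
    ext a
    show c.π.app a.left ≫ D.map a.hom = (e ≫ hYk.push j.hom) ≫ gj
    rw [c.w, Category.assoc, hYk.push_snd]
    exact ((congrArg (· ≫ c.π.app j.left) he).trans (Category.id_comp _)).symm.trans (Category.assoc _ _ _)
  obtain ⟨l, el, hel, helt⟩ := Scheme.exists_π_app_comp_eq_of_locallyOfFinitePresentation (Over.forget j.left ⋙ D) t' gj
    (c.whisker (Over.forget j.left)) ((Functor.Initial.isLimitWhiskerEquiv (Over.forget j.left) c).symm hc)
    (e ≫ hYk.push j.hom) ha'
  replace hel : c.π.app l.left ≫ el = e ≫ hYk.push j.hom := hel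
  replace helt : el ≫ gj = D.map l.hom := helt
  -- descend smoothness and monomorphy
  obtain ⟨s₁, φ₁, hsm⟩ := Desc.descend D c hc j.left (P := @Smooth) (Q := @LocallyOfFinitePresentation)
    LimSm.core_smooth fj inferInstance
    (Desc.of_two @Smooth hXj.sq (IsPullback.of_hasPullback _ _) (inferInstanceAs (Smooth f)))
  haveI : QuasiCompact (ij ≫ fj) := by rw [hij]; exact hYj.qc
  haveI : QuasiSeparated (ij ≫ fj) := by rw [hij]; exact hYj.qs
  haveI : LocallyOfFinitePresentation (ij ≫ fj) := by rw [hij]; exact hYj.lfp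
  haveI : QuasiCompact ij := QuasiCompact.of_comp ij fj
  haveI : QuasiSeparated ij := QuasiSeparated.of_comp ij fj
  haveI : LocallyOfFinitePresentation ij := AlgSpPts.locallyOfFinitePresentation_of_comp ij fj
  have hsq : IsPullback (hYk.push j.hom) i ij (hXk.push j.hom) := by
    refine IsPullback.of_bot ?_ hiq hXj.sq
    rw [hij]; exact hYj.sq
  obtain ⟨s₂, φ₂, Yi, Xi, fi, gi, pX, pY, h1, h2, h3⟩ :=
    Desc.descend₂ D c hc (P := (MorphismProperty.isomorphisms Scheme.{u}).diagonal)
      (Q := @LocallyOfFinitePresentation) ConsPropLib.core_mono ij fj inferInstance i f (hXk.push j.hom)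
      (hYk.push j.hom) hXj.sq hsq (inferInstanceAs (IsIso (pullback.diagonal i)))
  obtain ⟨m, ψ, χ, hχ⟩ := IsCofiltered.wideCospan
    (j := fun b : Option Bool => match b with | none => l.left | some true => s₁ | some false => s₂)
    (i := j.left) (fun b => match b with | none => l.hom | some true => φ₁ | some false => φ₂)
  have hXm := hXj.pushed ψ
  have hYm := hYj.pushed ψ
  let fm := pullback.snd fj (D.map ψ)
  let gm := pullback.snd gj (D.map ψ)
  let im : pullback gj (D.map ψ) ⟶ pullback fj (D.map ψ) :=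
    pullback.map gj (D.map ψ) fj (D.map ψ) ij (𝟙 _) (𝟙 _) (by simp [hij]) (by simp)
  haveI : Smooth fm := Desc.of_factor @Smooth hsm (a := D.map (χ (some true)))
    (g' := D.map ψ) (by rw [← D.map_comp]; exact congrArg D.map (hχ (some true))) (IsPullback.of_hasPullback fj (D.map ψ))
  haveI : Mono im := by
    have hP : (MorphismProperty.isomorphisms Scheme.{u}).diagonal im :=
      Desc.of_factor _ (Desc.of_two _ h2 (IsPullback.of_hasPullback ij pX) h3)
        (a := h1.lift (pullback.fst fj (D.map ψ)) (fm ≫ D.map (χ (some false))) (by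
          rw [Category.assoc, ← D.map_comp]
          exact pullback.condition.trans (congrArg (fm ≫ D.map ·) (hχ (some false)).symm)))
        (h1.lift_fst _ _ _) (ConsPropLib.isPullback_mapBC ij hij (D.map ψ))
    exact (pullback.isIso_diagonal_iff im).mp hP
  have him : im ≫ fm = gm := (pullback.lift_snd _ _ _).trans (Category.comp_id _)
  let qX : X ⟶ pullback fj (D.map ψ) := hXj.push ψ
  let qY : Y ⟶ pullback gj (D.map ψ) := hYj.push ψ
  have hqim : qY ≫ im = i ≫ qX := by
    apply pullback.hom_ext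
    · simp only [im, qX, qY, pullback.map, Category.assoc, pullback.lift_fst]
      rw [← Category.assoc, hYj.push_fst, hXj.push_fst]
      exact hiq
    · simp only [im, qX, qY, pullback.map, Category.assoc, pullback.lift_snd, Category.comp_id]
      rw [hYj.push_snd, hXj.push_snd]
      exact Category.assoc _ _ _
  let em : D.obj m ⟶ pullback gj (D.map ψ) := pullback.lift (D.map (χ none) ≫ el) (𝟙 _) (by
    rw [Category.assoc]
    refine (congrArg (D.map (χ none) ≫ ·) helt).trans ?_
    rw [Category.id_comp, ← D.map_comp]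
    exact congrArg D.map (hχ none))
  have hem : em ≫ im ≫ fm = 𝟙 _ := by rw [him]; exact pullback.lift_snd _ _ _
  have heq : c.π.app m ≫ em = e ≫ qY := by
    apply pullback.hom_ext
    · simp only [em, qY, Category.assoc, pullback.lift_fst]
      rw [hYj.push_fst, ← hel, ← Category.assoc, c.w]
    · simp only [em, qY, Category.assoc, pullback.lift_snd, Category.comp_id]
      rw [hYj.push_snd]
      exact ((congrArg (· ≫ c.π.app m) he).trans (Category.id_comp _)).symm.trans (Category.assoc _ _ _)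
  haveI : LocallyOfFiniteType (im ≫ fm) := by rw [him]; haveI := hYm.lfp; infer_instance
  haveI : LocallyOfFiniteType im := locallyOfFiniteType_of_comp im fm
  -- the locus at the noetherian stage
  obtain ⟨Z, z, hz, hZ⟩ := exists_formalLocus fm im em hem
  haveI := hz
  haveI : IsLocallyNoetherian Z := LocallyOfFiniteType.isLocallyNoetherian z
  haveI : LocallyOfFinitePresentation z := inferInstance
  let π : c.pt ⟶ D.obj m := c.π.app m
  let κ : pullback z π ⟶ c.pt := pullback.snd z π
  let ζ : pullback z π ⟶ Z := pullback.fst z π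
  have hζ : ζ ≫ z = κ ≫ π := pullback.condition
  refine ⟨pullback z π, κ, MorphismProperty.pullback_snd _ _ hz, MorphismProperty.pullback_snd _ _ inferInstance,
    fun T q hiso => ?_, ?_⟩
  · have hform : Formal fm im em (q ≫ π) := by
      intro C' _ J _ cc g hg _
      let gX : Spec (CommRingCat.of C') ⟶ X := hXm.sq.lift g (cc ≫ q) (by
        rw [hg]; exact (Category.assoc _ _ _).symm)
      let gT : Spec (CommRingCat.of C') ⟶ pullback f q :=
        pullback.lift gX cc (hXm.sq.lift_snd _ _ _)
      let ι₀ := pullback.map (i ≫ f) q f q i (𝟙 _) (𝟙 _) (by simp) (by simp)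
      haveI : IsIso ι₀ := hiso
      refine ⟨gT ≫ CategoryTheory.inv ι₀ ≫ pullback.fst _ _ ≫ qY, ?_⟩
      have h1 : CategoryTheory.inv ι₀ ≫ pullback.fst _ _ ≫ i = pullback.fst f q := by
        rw [IsIso.inv_comp_eq]; exact (pullback.lift_fst _ _ _).symm
      simp only [Category.assoc, hqim]
      rw [reassoc_of% h1, pullback.lift_fst_assoc]
      exact hXm.sq.lift_fst _ _ _
    obtain ⟨w, hw⟩ := (hZ _).mp hform
    exact ⟨pullback.lift w q hw, pullback.lift_snd _ _ _⟩
  · let iZ := pullback.map (im ≫ fm) z fm z im (𝟙 _) (𝟙 _) (by simp) (by simp)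
    let eZ : Z ⟶ pullback (im ≫ fm) z := pullback.lift (z ≫ em) (𝟙 Z)
      (by rw [Category.assoc, hem, Category.comp_id, Category.id_comp])
    haveI : Mono iZ := ⟨fun {W} a b hab => by
      have h1 : iZ ≫ pullback.fst fm z = pullback.fst (im ≫ fm) z ≫ im := pullback.lift_fst _ _ _
      have h2 : iZ ≫ pullback.snd fm z = pullback.snd (im ≫ fm) z := (pullback.lift_snd _ _ _).trans (Category.comp_id _)
      apply pullback.hom_ext
      · rw [← cancel_mono im, Category.assoc, Category.assoc, ← h1, reassoc_of% hab]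
      · rw [← h2, reassoc_of% hab]⟩
    haveI : LocallyOfFiniteType (iZ ≫ pullback.snd fm z) := by
      rw [show iZ ≫ pullback.snd fm z = pullback.snd (im ≫ fm) z from (pullback.lift_snd _ _ _).trans (Category.comp_id _)]
      exact MorphismProperty.pullback_snd _ _ inferInstance
    haveI : LocallyOfFiniteType iZ := locallyOfFiniteType_of_comp iZ (pullback.snd fm z)
    have heZ : eZ ≫ iZ ≫ pullback.snd fm z = 𝟙 Z :=
      (congrArg (eZ ≫ ·) ((pullback.lift_snd _ _ _).trans (Category.comp_id _))).trans (pullback.lift_snd _ _ _)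
    obtain ⟨UZ, lZ, hlZ, heU⟩ := exists_open_of_formal (pullback.snd fm z) iZ eZ heZ
      (formal_baseChange fm im em hem z ((hZ z).mpr ⟨𝟙 Z, Category.id_comp z⟩))
    let ρ : pullback f κ ⟶ pullback fm z := pullback.lift (pullback.fst f κ ≫ qX) (pullback.snd f κ ≫ ζ) (by
      rw [Category.assoc, Category.assoc, hζ, hXm.sq.w, ← Category.assoc, pullback.condition]
      exact Category.assoc _ _ _)
    let U := ρ ⁻¹ᵁ UZ
    let lm : (U : Scheme.{u}) ⟶ pullback gj (D.map ψ) := ρ ∣_ UZ ≫ lZ ≫ pullback.fst (im ≫ fm) z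
    have hlm : lm ≫ im = U.ι ≫ pullback.fst f κ ≫ qX := by
      have h1 : iZ ≫ pullback.fst fm z = pullback.fst (im ≫ fm) z ≫ im := pullback.lift_fst _ _ _
      simp only [lm, Category.assoc, ← h1]
      rw [reassoc_of% hlZ, morphismRestrict_ι_assoc]
      exact congrArg (U.ι ≫ ·) (pullback.lift_fst _ _ _)
    let lY : (U : Scheme.{u}) ⟶ Y := hYm.sq.lift lm (U.ι ≫ pullback.snd f κ ≫ κ) (by
      refine (congrArg (lm ≫ ·) him.symm).trans ?_
      rw [reassoc_of% hlm, hXm.sq.w, ← pullback.condition]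
      simp only [Category.assoc])
    refine ⟨U, lY, ?_, ?_⟩
    · apply hXm.sq.hom_ext
      · simp only [Category.assoc]
        rw [show i ≫ hXj.push ψ = qY ≫ im from hqim.symm]
        exact ((Category.assoc _ _ _).symm.trans (congrArg (· ≫ im) (hYm.sq.lift_fst _ _ _))).trans hlm
      · simp only [Category.assoc]
        refine (hYm.sq.lift_snd _ _ _).trans ?_
        rw [← pullback.condition]
    · rintro _ ⟨p, rfl⟩
      refine heU ⟨ζ p, ?_⟩
      rw [← Scheme.Hom.comp_apply, ← Scheme.Hom.comp_apply]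
      refine congrArg (fun m : _ ⟶ pullback fm z => m p) ?_
      apply pullback.hom_ext
      · simp only [ρ, eZ, iZ, pullback.map, Category.assoc, pullback.lift_fst, pullback.lift_fst_assoc]
        rw [reassoc_of% hζ, reassoc_of% heq, hqim]
      · simp only [ρ, eZ, iZ, pullback.map, Category.assoc, pullback.lift_snd, pullback.lift_snd_assoc, Category.comp_id,
          Category.id_comp]

/-- Over an affine base: the closed subscheme of finite presentation which contains the locus where `i` is an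
isomorphism and over which an open neighbourhood of the section lifts to `Y`. -/
theorem exists_locus [IsAffine S] (f : X ⟶ S) [Smooth f] [QuasiCompact f] [QuasiSeparated f]
    (i : Y ⟶ X) [Mono i] [LocallyOfFinitePresentation (i ≫ f)] [QuasiCompact (i ≫ f)] [QuasiSeparated (i ≫ f)]
    (e : S ⟶ Y) (he : e ≫ i ≫ f = 𝟙 S) :
    ∃ (Z₀ : Scheme.{u}) (z₀ : Z₀ ⟶ S), IsClosedImmersion z₀ ∧ LocallyOfFinitePresentation z₀ ∧
      (∀ (T : Scheme.{u}) (q : T ⟶ S),
        IsIso (pullback.map (i ≫ f) q f q i (𝟙 _) (𝟙 _) (by simp) (by simp)) → ∃ w, w ≫ z₀ = q) ∧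
      ∃ (U : (pullback f z₀).Opens) (l : (U : Scheme.{u}) ⟶ Y),
        l ≫ i = U.ι ≫ pullback.fst f z₀ ∧
          Set.range (pullback.lift (z₀ ≫ e ≫ i) (𝟙 _) (by simp [he]) : Z₀ ⟶ pullback f z₀) ⊆ U := by
  obtain ⟨I, _, _, D, c, hc, eS, hAff, hNoe⟩ := ConsPropLib.exists_noetherian_limit S
  haveI : ∀ {a b} (φ : a ⟶ b), IsAffineHom (D.map φ) := fun φ => isAffineHom_of_isAffine _
  exact exists_locus_of_isLimit (c := c.extend eS.inv) (IsLimit.extendIso eS.inv hc) f i e he

end Groth.Agent.Deform.InfNbhd
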