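import Groth.Agent.Deform.MonoEndo.Local
import Mathlib.AlgebraicGeometry.Morphisms.FlatMono

/-!
# Monomorphisms lifting all infinitesimal neighbourhoods of a point are flat there
-/

set_option autoImplicit false
set_option linter.style.haveILetI false

universe u

open CategoryTheory CategoryTheory.Limits AlgebraicGeometry IsLocalRing

namespace Groth.Agent.Deform.InfNbhd

theorem exists_hom_of_point {X : Scheme.{u}} {R : Type u} [CommRing R] [IsLocalRing R]
    (b : Spec (CommRingCat.of R) ⟶ X) (x : X) (hb : b (closedPoint R) = x) :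
    ∃ ψ : X.presheaf.stalk x ⟶ CommRingCat.of R, IsLocalHom ψ.hom ∧ Spec.map ψ ≫ X.fromSpecStalk x = b := by
  subst hb
  exact ⟨Scheme.stalkClosedPointTo b, inferInstance, Scheme.Spec_stalkClosedPointTo_fromSpecStalk b⟩

variable {Y X : Scheme.{u}} (g : Y ⟶ X) [Mono g] [IsLocallyNoetherian Y] [IsLocallyNoetherian X]

/-- A monomorphism through which all infinitesimal neighbourhoods of `g y` factor is flat at `y`. -/
theorem flat_stalkMap_of_lifts (y : Y)
    (hl : ∀ n : ℕ, ∃ b : Spec (CommRingCat.of (X.presheaf.stalk (g y) ⧸ maximalIdeal (X.presheaf.stalk (g y)) ^ (n + 1))) ⟶ Y,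
      b ≫ g = Spec.map (CommRingCat.ofHom (Ideal.Quotient.mk (maximalIdeal (X.presheaf.stalk (g y)) ^ (n + 1)))) ≫ X.fromSpecStalk (g y)) :
    (g.stalkMap y).hom.Flat := by
  have hsec : ∀ n : ℕ,
      ∃ ψ : Y.presheaf.stalk y →+* X.presheaf.stalk (g y) ⧸ maximalIdeal (X.presheaf.stalk (g y)) ^ (n + 1),
        IsLocalHom ψ ∧ ∀ r, ψ ((g.stalkMap y).hom r) = Ideal.Quotient.mk _ r := by
    intro n
    haveI : Nontrivial (X.presheaf.stalk (g y) ⧸ maximalIdeal (X.presheaf.stalk (g y)) ^ (n + 1)) :=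
      Ideal.Quotient.nontrivial_iff.mpr
        (ne_top_of_le_ne_top (maximalIdeal.isMaximal _).ne_top (Ideal.pow_le_self n.succ_ne_zero))
    haveI : IsLocalRing (X.presheaf.stalk (g y) ⧸ maximalIdeal (X.presheaf.stalk (g y)) ^ (n + 1)) :=
      IsLocalRing.of_surjective' (Ideal.Quotient.mk _) Ideal.Quotient.mk_surjective
    let π : X.presheaf.stalk (g y) ⟶
        CommRingCat.of (X.presheaf.stalk (g y) ⧸ maximalIdeal (X.presheaf.stalk (g y)) ^ (n + 1)) :=
      CommRingCat.ofHom (Ideal.Quotient.mk _)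
    haveI : IsLocalHom π.hom :=
      .of_surjective (Ideal.Quotient.mk (maximalIdeal (X.presheaf.stalk (g y)) ^ (n + 1))) Ideal.Quotient.mk_surjective
    obtain ⟨b, hb⟩ := hl n
    have hby : b (closedPoint _) = y := by
      apply g.injective
      rw [← Scheme.Hom.comp_apply, hb, Scheme.Hom.comp_apply]
      exact (congrArg (X.fromSpecStalk (g y)) (Spec_closedPoint (f := π))).trans Scheme.fromSpecStalk_closedPoint
    obtain ⟨ψ, hψl, hψ⟩ := exists_hom_of_point b y hby
    have hc : g.stalkMap y ≫ ψ = π := by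
      apply Spec.map_injective
      rw [← cancel_mono (X.fromSpecStalk (g y)), Spec.map_comp, Category.assoc,
        Scheme.SpecMap_stalkMap_fromSpecStalk, ← Category.assoc, hψ, hb]
      rfl
    exact ⟨ψ.hom, hψl, fun r => congrArg (fun m => m.hom r) hc⟩
  letI : Algebra (X.presheaf.stalk (g y)) (Y.presheaf.stalk y) := (g.stalkMap y).hom.toAlgebra
  haveI : IsLocalHom (algebraMap (X.presheaf.stalk (g y)) (Y.presheaf.stalk y)) :=
    inferInstanceAs (IsLocalHom (g.stalkMap y).hom)
  refine MonoEndo.flat_of_forall_pow (fun n r hr => ?_) fun n s => ?_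
  · rcases n with _ | n
    · simp
    · obtain ⟨ψ, hψl, hψ⟩ := hsec n
      rw [← Ideal.Quotient.eq_zero_iff_mem, ← hψ r]
      have h2 : (maximalIdeal (Y.presheaf.stalk y)).map ψ ≤
          (maximalIdeal (X.presheaf.stalk (g y))).map (Ideal.Quotient.mk (maximalIdeal (X.presheaf.stalk (g y)) ^ (n + 1))) := by
        refine Ideal.map_le_iff_le_comap.mpr fun z hz => ?_
        obtain ⟨w, hw⟩ := Ideal.Quotient.mk_surjective (ψ z)
        rw [Ideal.mem_comap, ← hw]
        exact Ideal.mem_map_of_mem _ (mem_nonunits_iff.mpr fun h =>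
          mem_nonunits_iff.mp hz (IsLocalHom.map_nonunit z (hw ▸ h.map _)))
      have h3 := Ideal.pow_right_mono h2 (n + 1)
      rw [← Ideal.map_pow, ← Ideal.map_pow, Ideal.map_quotient_self] at h3
      exact h3 (Ideal.mem_map_of_mem ψ hr)
  · rcases n with _ | n
    · exact ⟨0, by simp⟩
    · obtain ⟨ψ, hψl, hψ⟩ := hsec n
      obtain ⟨r, hr⟩ := Ideal.Quotient.mk_surjective (ψ s)
      refine ⟨r, Ideal.Quotient.eq.mp ?_⟩
      have hle : maximalIdeal (X.presheaf.stalk (g y)) ^ (n + 1) ≤
          (maximalIdeal (Y.presheaf.stalk y) ^ (n + 1)).comap (g.stalkMap y).hom := by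
        rw [← Ideal.map_le_iff_le_comap, Ideal.map_pow]
        exact Ideal.pow_right_mono (Ideal.map_le_iff_le_comap.mpr fun z hz => mem_nonunits_iff.mpr
          fun h => mem_nonunits_iff.mp hz (IsLocalHom.map_nonunit (f := (g.stalkMap y).hom) z h)) _
      let φn := Ideal.quotientMap (maximalIdeal (Y.presheaf.stalk y) ^ (n + 1)) (g.stalkMap y).hom hle
      have hc2 : CommRingCat.ofHom ψ ≫ CommRingCat.ofHom φn =
          CommRingCat.ofHom (Ideal.Quotient.mk (maximalIdeal (Y.presheaf.stalk y) ^ (n + 1))) := by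
        apply Spec.map_injective
        rw [← cancel_mono (Y.fromSpecStalk y), ← cancel_mono g, Category.assoc, Category.assoc,
          ← Scheme.SpecMap_stalkMap_fromSpecStalk, ← Spec.map_comp_assoc, ← Spec.map_comp_assoc]
        congr 2
        exact CommRingCat.hom_ext (RingHom.ext fun r => (congrArg φn (hψ r)).trans rfl)
      have h5 : φn (ψ s) = Ideal.Quotient.mk (maximalIdeal (Y.presheaf.stalk y) ^ (n + 1)) s :=
        congrArg (fun m => m.hom s) hc2
      rw [← h5, ← hr]
      rfl

end Groth.Agent.Deform.InfNbhd
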