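import Groth.Agent.Deform.InfNbhd.Projective
import Groth.Agent.Deform.InfNbhd.Flat
import Groth.Agent.GrpSchLib.WeilClosed
import Groth.Agent.H4BC.Content.ClosedLocal
import Groth.Agent.S0386
import Mathlib.AlgebraicGeometry.ZariskisMainTheorem

/-!
# The locus where a monomorphism contains the infinitesimal neighbourhoods of a section
-/

set_option autoImplicit false
set_option linter.style.haveILetI false
set_option backward.isDefEq.respectTransparency.types false

universe u

open CategoryTheory CategoryTheory.Limits AlgebraicGeometry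
open scoped TensorProduct

namespace Groth.Agent.Deform.InfNbhd

variable {S X Y : Scheme.{u}} (f : X ⟶ S) (i : Y ⟶ X) (e : S ⟶ Y)

/-- The infinitesimal neighbourhoods of the section lift to `Y` after base change along `q`. -/
def Formal {T : Scheme.{u}} (q : T ⟶ S) : Prop :=
  ∀ (C : Type u) [CommRing C] (J : Ideal C), IsNilpotent J →
    ∀ (c : Spec (CommRingCat.of C) ⟶ T) (h : Spec (CommRingCat.of C) ⟶ X), h ≫ f = c ≫ q →
      Spec.map (CommRingCat.ofHom (Ideal.Quotient.mk J)) ≫ h =
        Spec.map (CommRingCat.ofHom (Ideal.Quotient.mk J)) ≫ c ≫ q ≫ e ≫ i →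
      ∃ l, l ≫ i = h

theorem formal_comp {T T' : Scheme.{u}} (a : T' ⟶ T) (q : T ⟶ S) (h : Formal f i e q) : Formal f i e (a ≫ q) := by
  intro C _ J hJ c g hg hk
  exact h C J hJ (c ≫ a) g (by rw [hg, Category.assoc]) (by simpa only [Category.assoc] using hk)

theorem formal_local [Mono i] {T : Scheme.{u}} (q : T ⟶ S) (𝒱 : Scheme.OpenCover.{u} T)
    (hall : ∀ k, Formal f i e (𝒱.f k ≫ q)) : Formal f i e q := by
  intro C _ J hJ c h hh hk
  have hcov : ∀ p : PrimeSpectrum C, ∃ g : C, p ∈ PrimeSpectrum.basicOpen g ∧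
      ∃ k, c '' (PrimeSpectrum.basicOpen g : Set (PrimeSpectrum C)) ⊆ Set.range (𝒱.f k) := fun p => by
    obtain ⟨k, hk⟩ : ∃ k, c p ∈ Set.range (𝒱.f k) := ⟨_, 𝒱.covers (c p)⟩
    obtain ⟨_, ⟨_, ⟨g, rfl⟩, rfl⟩, hpg, hsub⟩ := PrimeSpectrum.isBasis_basic_opens.exists_subset_of_mem_open
      (show p ∈ c ⁻¹' Set.range (𝒱.f k) from hk) ((𝒱.f k).isOpenEmbedding.isOpen_range.preimage c.continuous)
    exact ⟨g, hpg, k, Set.image_subset_iff.mpr hsub⟩
  choose g hg k hgk using hcov
  let m : ∀ p : PrimeSpectrum C, Spec (CommRingCat.of (Localization.Away (g p))) ⟶ Spec (CommRingCat.of C) :=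
    fun p => Spec.map (CommRingCat.ofHom (algebraMap C (Localization.Away (g p))))
  haveI : ∀ p, IsOpenImmersion (m p) := fun p => IsOpenImmersion.of_isLocalization (g p)
  have hm : ∀ p, Set.range (m p) = (PrimeSpectrum.basicOpen (g p) : Set (PrimeSpectrum C)) := fun p =>
    PrimeSpectrum.localization_away_comap_range _ (g p)
  have hloc : ∀ p, ∃ l, l ≫ i = m p ≫ h := fun p => by
    let c' := IsOpenImmersion.lift (𝒱.f (k p)) (m p ≫ c) (by
      rintro _ ⟨z, rfl⟩
      exact hgk p ⟨_, (hm p).le ⟨z, rfl⟩, rfl⟩)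
    have hc' : c' ≫ 𝒱.f (k p) = m p ≫ c := IsOpenImmersion.lift_fac _ _ _
    refine hall (k p) (Localization.Away (g p)) (J.map (algebraMap C _)) ?_ c' (m p ≫ h) ?_ ?_
    · obtain ⟨n, hn⟩ := hJ
      exact ⟨n, by rw [← Ideal.map_pow, hn]; exact Ideal.map_bot⟩
    · rw [Category.assoc, hh, reassoc_of% hc']
    · let κ : C ⧸ J →+* Localization.Away (g p) ⧸ J.map (algebraMap C (Localization.Away (g p))) :=
        Ideal.quotientMap _ (algebraMap C _) Ideal.le_comap_map
      have hκ : Spec.map (CommRingCat.ofHom (Ideal.Quotient.mk (J.map (algebraMap C (Localization.Away (g p)))))) ≫ m p =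
          Spec.map (CommRingCat.ofHom κ) ≫ Spec.map (CommRingCat.ofHom (Ideal.Quotient.mk J)) := by
        rw [← Spec.map_comp, ← Spec.map_comp]
        rfl
      rw [reassoc_of% hκ, hk, ← reassoc_of% hκ, Category.assoc, reassoc_of% hc']
  choose l hl using hloc
  let 𝒲 : (Spec (CommRingCat.of C)).OpenCover :=
    Scheme.Cover.mkOfCovers _ _ m (fun p => ⟨p, (hm p).ge (hg p)⟩) (fun p => inferInstance)
  refine ⟨𝒲.glueMorphisms l fun a b => ?_, 𝒲.hom_ext _ _ fun p => ?_⟩
  · rw [← cancel_mono i, Category.assoc, Category.assoc]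
    exact (congrArg (_ ≫ ·) (hl a)).trans ((pullback.condition_assoc _).trans (congrArg (_ ≫ ·) (hl b)).symm)
  · rw [← Category.assoc, Scheme.Cover.ι_glueMorphisms]
    exact hl p

variable [Mono i] [LocallyOfFiniteType i] [Smooth f] (he : e ≫ i ≫ f = 𝟙 S)
include he

/-- Near every point the condition is cut out by an ideal. -/
theorem exists_cuts (x : S) : ∃ (W : S.Opens) (hW : IsAffineOpen W) (I : Ideal Γ(S, W)),
    x ∈ W ∧ H4BC.ClosedLocal.Cuts (fun {T} q => Formal f i e (T := T) q) hW I := by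
  have hfe : ∀ s, f ((e ≫ i) s) = s := fun s => by
    rw [← Scheme.Hom.comp_apply, Category.assoc, he]; rfl
  obtain ⟨W₁, hW₁, hxW₁, -⟩ := exists_isAffineOpen_mem_and_subset (show x ∈ (⊤ : S.Opens) from trivial)
  obtain ⟨V₁, hV₁, hxV₁, hVW₁⟩ := exists_isAffineOpen_mem_and_subset
    (show (e ≫ i) x ∈ f ⁻¹ᵁ W₁ from (by show f ((e ≫ i) x) ∈ W₁; rw [hfe]; exact hxW₁))
  obtain ⟨g, hg, hxg⟩ := hW₁.exists_basicOpen_le (V := (e ≫ i) ⁻¹ᵁ V₁) ⟨x, hxV₁⟩ hxW₁
  let W := S.basicOpen g
  have hW : IsAffineOpen W := hW₁.basicOpen g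
  let V := V₁ ⊓ f ⁻¹ᵁ W
  have hV : IsAffineOpen V := by
    have h1 := hV₁.basicOpen (f.appLE W₁ V₁ hVW₁ g)
    rwa [Scheme.basicOpen_appLE] at h1
  have hle : V ≤ f ⁻¹ᵁ W := inf_le_right
  let A := Γ(S, W)
  let B := Γ(X, V)
  letI : Algebra A B := (f.appLE W V hle).hom.toAlgebra
  haveI : Algebra.Smooth A B := HasRingHomProperty.appLE @Smooth f inferInstance ⟨W, hW⟩ ⟨V, hV⟩ hle
  have hfV : Spec.map (CommRingCat.ofHom (algebraMap A B)) ≫ hW.fromSpec = hV.fromSpec ≫ f :=
    IsAffineOpen.SpecMap_appLE_fromSpec f hW hV hle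
  let σ := IsOpenImmersion.lift hV.fromSpec (hW.fromSpec ≫ e ≫ i) (by
    rintro _ ⟨z, rfl⟩
    rw [hV.range_fromSpec]
    have hz : hW.fromSpec z ∈ W := hW.range_fromSpec.le ⟨z, rfl⟩
    refine ⟨hg hz, ?_⟩
    show f ((hW.fromSpec ≫ e ≫ i) z) ∈ W
    rw [Scheme.Hom.comp_apply, hfe]
    exact hz)
  obtain ⟨ε₀, hε₀⟩ := Spec.map_surjective σ
  have hσ : Spec.map ε₀ ≫ hV.fromSpec = hW.fromSpec ≫ e ≫ i := by rw [hε₀]; exact IsOpenImmersion.lift_fac _ _ _
  have hεA : CommRingCat.ofHom (algebraMap A B) ≫ ε₀ = 𝟙 _ := by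
    apply Spec.map_injective
    rw [← cancel_mono hW.fromSpec, Spec.map_comp, Category.assoc, hfV, reassoc_of% hσ, Spec.map_id, he]
    exact (Category.comp_id _).trans (Category.id_comp _).symm
  let ε : B →ₐ[A] A := { ε₀.hom with commutes' := fun r => congrArg (fun m => m.hom r) hεA }
  have hεsurj : Function.Surjective ε := fun r => ⟨algebraMap A B r, ε.commutes r⟩
  have hP : (RingHom.ker ε).FG := Algebra.FinitePresentation.ker_fG_of_surjective ε hεsurj
  let P := RingHom.ker ε
  let v : ∀ n : ℕ, Spec (CommRingCat.of (B ⧸ P ^ (n + 1))) ⟶ X := fun n =>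
    Spec.map (CommRingCat.ofHom (Ideal.Quotient.mk (P ^ (n + 1)))) ≫ hV.fromSpec
  haveI hcl : ∀ n, IsClosedImmersion (pullback.snd i (v n)) := fun n => by
    let εn : B ⧸ P ^ (n + 1) →+* A :=
      Ideal.Quotient.lift _ ε.toRingHom fun b hb => Ideal.pow_le_self n.succ_ne_zero hb
    let s₀ : Spec (CommRingCat.of A) ⟶ Spec (CommRingCat.of (B ⧸ P ^ (n + 1))) := Spec.map (CommRingCat.ofHom εn)
    have hεn : Function.Surjective εn := fun r => ⟨Ideal.Quotient.mk _ (algebraMap A B r), ε.commutes r⟩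
    haveI : IsClosedImmersion s₀ := IsClosedImmersion.spec_of_surjective _ hεn
    have hs₀ : Function.Surjective s₀ := fun z => by
      have hz : (z : PrimeSpectrum (B ⧸ P ^ (n + 1))) ∈ Set.range (PrimeSpectrum.comap εn) := by
        rw [range_comap_of_surjective _ _ hεn]
        intro y hy
        obtain ⟨b, rfl⟩ := Ideal.Quotient.mk_surjective y
        refine (z : PrimeSpectrum (B ⧸ P ^ (n + 1))).isPrime.mem_of_pow_mem (n + 1) ?_
        rw [← map_pow, Ideal.Quotient.eq_zero_iff_mem.mpr (Ideal.pow_mem_pow (show b ∈ P from hy) (n + 1))]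
        exact zero_mem _
      exact hz
    let w : Spec (CommRingCat.of A) ⟶ pullback i (v n) := pullback.lift (hW.fromSpec ≫ e) s₀ (by
      show _ = s₀ ≫ Spec.map (CommRingCat.ofHom (Ideal.Quotient.mk (P ^ (n + 1)))) ≫ hV.fromSpec
      rw [← Spec.map_comp_assoc, Category.assoc, ← hσ]
      rfl)
    have hws : w ≫ pullback.snd i (v n) = s₀ := pullback.lift_snd _ _ _
    haveI : Mono (pullback.snd i (v n)) := inferInstance
    haveI : Surjective w := ⟨fun z => by
      obtain ⟨a, ha⟩ := hs₀ (pullback.snd i (v n) z)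
      exact ⟨a, (pullback.snd i (v n)).injective (by rw [← Scheme.Hom.comp_apply, hws, ha])⟩⟩
    haveI : UniversallyClosed (w ≫ pullback.snd i (v n)) := by rw [hws]; infer_instance
    haveI : UniversallyClosed (pullback.snd i (v n)) := UniversallyClosed.of_comp_surjective w _
    haveI : LocallyOfFiniteType (pullback.snd i (v n)) := MorphismProperty.pullback_snd _ _ inferInstance
    haveI : IsProper (pullback.snd i (v n)) := {}
    exact (IsClosedImmersion.iff_isProper_and_mono ..).mpr ⟨inferInstance, inferInstance⟩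
  choose K hK using fun n => GrpSchLib.factors_closed_iff (pullback.snd i (v n)) (𝟙 (Spec (CommRingCat.of (B ⧸ P ^ (n + 1)))))
  have hfac : ∀ (n : ℕ) (D : CommRingCat.{u}) (ψ : CommRingCat.of (B ⧸ P ^ (n + 1)) ⟶ D),
      (∃ l, l ≫ i = Spec.map ψ ≫ v n) ↔ K n ≤ RingHom.ker ψ.hom := fun n D ψ => by
    rw [← hK n D ψ]
    constructor
    · rintro ⟨l, hl⟩
      exact ⟨pullback.lift l (Spec.map ψ) hl, by rw [pullback.lift_snd, Category.comp_id]⟩
    · rintro ⟨l, hl⟩
      refine ⟨l ≫ pullback.fst i (v n), ?_⟩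
      rw [Category.assoc, pullback.condition, reassoc_of% hl]
  haveI : ∀ n, Module.Projective A (B ⧸ P ^ (n + 1)) := fun n => projective_quotient ε hP (n + 1)
  choose I hI using fun n =>
    GrpSchLib.exists_contentIdeal_of_projective (A := A) (M := B ⧸ P ^ (n + 1)) (K n : Set (B ⧸ P ^ (n + 1)))
  refine ⟨W, hW, ⨆ n, I n, hxg, fun R q => ?_⟩
  letI : Algebra A R := q.hom.toAlgebra
  rw [iSup_le_iff]
  constructor
  · intro hform n
    refine (hI n R).mp fun y hy => ?_
    let C := R ⊗[A] (B ⧸ P ^ (n + 1))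
    let inr : (B ⧸ P ^ (n + 1)) →ₐ[A] C := Algebra.TensorProduct.includeRight
    let J : Ideal C := (P.map (Ideal.Quotient.mk (P ^ (n + 1)))).map inr.toRingHom
    have hJ : IsNilpotent J := ⟨n + 1, by
      rw [← Ideal.map_pow, ← Ideal.map_pow, Ideal.map_quotient_self, Ideal.map_bot]; rfl⟩
    let c : Spec (CommRingCat.of C) ⟶ Spec R := Spec.map (CommRingCat.ofHom (algebraMap R C))
    have hc : CommRingCat.ofHom (algebraMap A C) = q ≫ CommRingCat.ofHom (algebraMap R C) :=
      CommRingCat.hom_ext (IsScalarTower.algebraMap_eq A R C)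
    have h1 : (Spec.map (CommRingCat.ofHom inr.toRingHom) ≫ v n) ≫ f = c ≫ Spec.map q ≫ hW.fromSpec := by
      simp only [v, c, Category.assoc, ← hfV]
      rw [← Spec.map_comp_assoc, ← Spec.map_comp_assoc, ← Spec.map_comp_assoc, ← hc]
      congr 2
      exact CommRingCat.hom_ext (RingHom.ext fun r => inr.commutes r)
    let kJ : Spec (CommRingCat.of (C ⧸ J)) ⟶ Spec (CommRingCat.of C) :=
      Spec.map (CommRingCat.ofHom (R := C) (S := C ⧸ J) (Ideal.Quotient.mk J : C →+* C ⧸ J))
    have h2 : kJ ≫ Spec.map (CommRingCat.ofHom inr.toRingHom) ≫ v n = kJ ≫ c ≫ (Spec.map q ≫ hW.fromSpec) ≫ e ≫ i := by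
      simp only [kJ, v, c, Category.assoc, ← hσ]
      rw [← Spec.map_comp_assoc, ← Spec.map_comp_assoc, ← Spec.map_comp_assoc, ← Spec.map_comp_assoc,
        ← Spec.map_comp_assoc]
      congr 2
      refine CommRingCat.hom_ext (RingHom.ext fun b => ?_)
      show Ideal.Quotient.mk J (inr (Ideal.Quotient.mk _ b)) = Ideal.Quotient.mk J (algebraMap R C (q.hom (ε b)))
      rw [show algebraMap R C (q.hom (ε b)) = inr (Ideal.Quotient.mk _ (algebraMap A B (ε b))) from
        ((IsScalarTower.algebraMap_apply A R C (ε b)).symm.trans (inr.commutes (ε b)).symm)]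
      refine Ideal.Quotient.eq.mpr ?_
      rw [← map_sub, ← map_sub]
      refine Ideal.mem_map_of_mem _ (Ideal.mem_map_of_mem _ ?_)
      show ε (b - algebraMap A B (ε b)) = 0
      simp
    obtain ⟨l, hl⟩ := hform C J hJ c (Spec.map (CommRingCat.ofHom inr.toRingHom) ≫ v n) h1 h2
    exact (hfac n _ (CommRingCat.ofHom inr.toRingHom)).mp ⟨l, hl⟩ hy
  · intro hle C _ J hJ c h hh hk
    obtain ⟨γ, rfl⟩ := Spec.map_surjective c
    let k := Spec.map (CommRingCat.ofHom (Ideal.Quotient.mk J))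
    have hksurj : Function.Surjective k := fun z => by
      obtain ⟨N, hN⟩ := hJ
      have hz : (z : PrimeSpectrum C) ∈ Set.range (PrimeSpectrum.comap (Ideal.Quotient.mk J)) := by
        rw [range_comap_of_surjective _ _ Ideal.Quotient.mk_surjective, Ideal.mk_ker]
        intro y hy
        refine (z : PrimeSpectrum C).isPrime.mem_of_pow_mem N ?_
        have := Ideal.pow_mem_pow hy N
        rw [hN] at this
        rw [show y ^ N = 0 from this]
        exact zero_mem _
      exact hz
    have hrange : Set.range h ⊆ Set.range hV.fromSpec := by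
      rintro _ ⟨z, rfl⟩
      obtain ⟨z', rfl⟩ := hksurj z
      rw [← Scheme.Hom.comp_apply, hk, hV.range_fromSpec]
      simp only [Category.assoc, ← hσ]
      exact hV.range_fromSpec.le ⟨_, rfl⟩
    obtain ⟨β, hβ⟩ := Spec.map_surjective (IsOpenImmersion.lift hV.fromSpec h hrange)
    have hβh : Spec.map β ≫ hV.fromSpec = h := by rw [hβ]; exact IsOpenImmersion.lift_fac _ _ _
    have hβA : CommRingCat.ofHom (algebraMap A B) ≫ β = q ≫ γ := by
      apply Spec.map_injective
      rw [← cancel_mono hW.fromSpec, Spec.map_comp, Spec.map_comp, Category.assoc, hfV, reassoc_of% hβh, hh,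
        Category.assoc]
    have hβJ : β ≫ CommRingCat.ofHom (Ideal.Quotient.mk J) = ε₀ ≫ q ≫ γ ≫ CommRingCat.ofHom (Ideal.Quotient.mk J) := by
      apply Spec.map_injective
      rw [← cancel_mono hV.fromSpec]
      simp only [Spec.map_comp, Category.assoc]
      rw [hβh, hk, hσ]
      simp only [Category.assoc]
    obtain ⟨N, hN⟩ := hJ
    have hβP : ∀ b ∈ P ^ (N + 1), β.hom b = 0 := by
      intro b hb
      have h1 : P ≤ J.comap β.hom := fun y hy => by
        rw [Ideal.mem_comap, ← Ideal.Quotient.eq_zero_iff_mem]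
        refine (congrArg (fun m => m.hom y) hβJ).trans ?_
        show Ideal.Quotient.mk J (γ.hom (q.hom (ε y))) = 0
        rw [RingHom.mem_ker.mp hy, map_zero, map_zero, map_zero]
      have h2 := Ideal.le_comap_pow β.hom (N + 1) (Ideal.pow_right_mono h1 (N + 1) hb)
      rw [Ideal.mem_comap] at h2
      have h3 := Ideal.pow_le_pow_right (Nat.le_succ N) h2
      rw [hN] at h3
      exact h3
    letI : Algebra A C := (γ.hom.comp q.hom).toAlgebra
    let β' : (B ⧸ P ^ (N + 1)) →ₐ[A] C :=
      { Ideal.Quotient.lift _ β.hom hβP with commutes' := fun r => congrArg (fun m => m.hom r) hβA }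
    let γ' : R →ₐ[A] C := { γ.hom with commutes' := fun r => rfl }
    have hK' : K N ≤ RingHom.ker β'.toRingHom := fun y hy => by
      have h1 := congrArg (Algebra.TensorProduct.lift γ' β' (fun _ _ => Commute.all _ _)) ((hI N R).mpr (hle N) y hy)
      rw [Algebra.TensorProduct.lift_tmul, map_one, one_mul, map_zero] at h1
      exact h1
    obtain ⟨l, hl⟩ := (hfac N _ (CommRingCat.ofHom β'.toRingHom)).mpr hK'
    refine ⟨l, hl.trans ?_⟩
    simp only [v]
    rw [← Spec.map_comp_assoc, ← hβh]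
    congr 2

/-- The closed subscheme over which the infinitesimal neighbourhoods of the section lift. -/
theorem exists_formalLocus : ∃ (Z : Scheme.{u}) (z : Z ⟶ S), IsClosedImmersion z ∧
    ∀ {T : Scheme.{u}} (q : T ⟶ S), Formal f i e q ↔ ∃ w, w ≫ z = q := by
  obtain ⟨Z, z, hz, hu, -⟩ := H4BC.ClosedLocal.exists_closed (fun {T} q => Formal f i e (T := T) q)
    (fun {T T'} a q h => formal_comp f i e a q h) (fun {T} q 𝒱 h => formal_local f i e q 𝒱 h)
    (exists_cuts f i e he)
  exact ⟨Z, z, hz, hu⟩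

/-- If the infinitesimal neighbourhoods lift, an open neighbourhood of the section lifts. -/
theorem exists_open_of_formal [IsLocallyNoetherian S] (hform : Formal f i e (𝟙 S)) :
    ∃ (U : X.Opens) (l : (U : Scheme.{u}) ⟶ Y), l ≫ i = U.ι ∧ Set.range (e ≫ i) ⊆ U := by
  haveI : IsLocallyNoetherian X := LocallyOfFiniteType.isLocallyNoetherian f
  haveI : IsLocallyNoetherian Y := LocallyOfFiniteType.isLocallyNoetherian i
  haveI : LocallyOfFinitePresentation i := inferInstance
  let V : Y.Opens := ⟨{y | (i.stalkMap y).hom.Flat}, S0386.result i⟩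
  haveI : Flat (V.ι ≫ i) := Flat.of_stalkMap _ fun y => by
    erw [Scheme.Hom.stalkMap_comp, CommRingCat.hom_comp]
    exact RingHom.Flat.comp y.2 (Flat.stalkMap V.ι y)
  haveI : Mono (V.ι ≫ i) := mono_comp _ _
  haveI : IsOpenImmersion (V.ι ≫ i) := IsOpenImmersion.of_flat_of_mono _
  have heV : ∀ s, e s ∈ V := fun s => by
    refine flat_stalkMap_of_lifts i (e s) fun n => ?_
    let R := X.presheaf.stalk (i (e s))
    let π : R →+* R ⧸ IsLocalRing.maximalIdeal R ^ (n + 1) := Ideal.Quotient.mk _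
    let J : Ideal (R ⧸ IsLocalRing.maximalIdeal R ^ (n + 1)) := (IsLocalRing.maximalIdeal R).map π
    let h₀ := Spec.map (CommRingCat.ofHom π) ≫ X.fromSpecStalk (i (e s))
    refine hform _ J ⟨n + 1, by rw [← Ideal.map_pow]; exact Ideal.map_quotient_self _⟩ (h₀ ≫ f) h₀
      (Category.comp_id _).symm ?_
    -- the residue field of a point of the section
    let x := (e ≫ i) s
    have hres : X.fromSpecResidueField x ≫ f ≫ e ≫ i = X.fromSpecResidueField x := by
      let r := (e ≫ i).residueFieldMap s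
      have hr : Spec.map r ≫ X.fromSpecResidueField x = S.fromSpecResidueField s ≫ e ≫ i :=
        Scheme.Hom.SpecMap_residueFieldMap_fromSpecResidueField _ _
      have hsurj : Function.Surjective r.hom := by
        intro a
        have hcomp : Spec.map r ≫ X.fromSpecResidueField x ≫ f = S.fromSpecResidueField s := by
          rw [reassoc_of% hr, he, Category.comp_id]
        have hfs : f x = s := by
          show f ((e ≫ i) s) = s
          rw [← Scheme.Hom.comp_apply, Category.assoc, he]; rfl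
        let t := S.residueFieldCongr hfs.symm
        have h1 : t.hom ≫ f.residueFieldMap x ≫ r = 𝟙 _ := by
          apply Spec.map_injective
          rw [← cancel_mono (S.fromSpecResidueField s), Spec.map_id, Category.id_comp, Spec.map_comp, Spec.map_comp,
            Category.assoc, Category.assoc, Scheme.residueFieldCongr_fromSpecResidueField,
            Scheme.Hom.SpecMap_residueFieldMap_fromSpecResidueField, hcomp]
        exact ⟨(f.residueFieldMap x).hom (t.hom.hom a), congrArg (fun m => m.hom a) h1⟩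
      haveI : IsIso r := (ConcreteCategory.isIso_iff_bijective r).mpr ⟨r.hom.injective, hsurj⟩
      rw [← cancel_epi (Spec.map r), reassoc_of% hr, reassoc_of% he, hr]
    let κ' : X.residueField x ⟶ CommRingCat.of ((R ⧸ IsLocalRing.maximalIdeal R ^ (n + 1)) ⧸ J) :=
      CommRingCat.ofHom (Ideal.Quotient.lift (IsLocalRing.maximalIdeal R) ((Ideal.Quotient.mk J).comp π) fun a ha =>
        Ideal.Quotient.eq_zero_iff_mem.mpr (Ideal.mem_map_of_mem _ ha))
    have hκ : Spec.map (CommRingCat.ofHom (Ideal.Quotient.mk J)) ≫ h₀ = Spec.map κ' ≫ X.fromSpecResidueField x := by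
      show _ = Spec.map κ' ≫ Spec.map (X.residue x) ≫ X.fromSpecStalk x
      rw [← Spec.map_comp_assoc]
      simp only [h₀]
      rw [← Spec.map_comp_assoc]
      rfl
    simp only [Category.assoc, Category.id_comp]
    rw [reassoc_of% hκ, hres, ← hκ]
  refine ⟨(V.ι ≫ i).opensRange, (V.ι ≫ i).isoOpensRange.inv ≫ V.ι, ?_, ?_⟩
  · rw [Category.assoc, Scheme.Hom.isoOpensRange_inv_comp]
  · rintro _ ⟨s, rfl⟩
    exact ⟨⟨e s, heV s⟩, rfl⟩

end Groth.Agent.Deform.InfNbhd
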