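import Groth.Agent.Deform.InfNbhd.Approx
import Groth.Agent.Deform.Neutral.Constructible
import Groth.Agent.GrpSchLib.CoincidenceFP
import Mathlib.AlgebraicGeometry.Morphisms.FlatDescent

/-!
# The locus where a subgroup of a smooth group with connected fibres is the whole group (VI_B 6.?)
-/

set_option autoImplicit false
set_option linter.style.haveILetI false
set_option backward.isDefEq.respectTransparency.types false

universe u

open CategoryTheory CategoryTheory.Limits MonoidalCategory CartesianMonoidalCategory MonObj GrpObj AlgebraicGeometry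

attribute [local instance] CategoryTheory.Hom.monoid CategoryTheory.Hom.group

namespace Groth.Agent.Deform.InfNbhd

variable {S : Scheme.{u}}

/-- A subgroup through which an open neighbourhood of the unit section factors is the whole group. -/
theorem isIso_of_open_lift (X Y : Over S) [GrpObj X] [GrpObj Y] [Smooth X.hom]
    (hX : SGA3x.neutralSet X = Set.univ) (i : Y ⟶ X) [IsMonHom i] [Mono i]
    (U : X.left.Opens) (l : (U : Scheme.{u}) ⟶ Y.left) (hl : l ≫ i.left = U.ι)
    (hU : ∀ s, GrpSchLib.Neutral.unit X s ∈ U) : IsIso i.left := by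
  let Uo : Over S := Over.mk (U.ι ≫ X.hom)
  let u : Uo ⟶ X := Over.homMk U.ι rfl
  let lY : Uo ⟶ Y := Over.homMk l (by show l ≫ Y.hom = U.ι ≫ X.hom; rw [← hl, Category.assoc, Over.w i])
  have hlY : lY ≫ i = u := Over.OverMorphism.ext hl
  let sh : X ⊗ X ⟶ X ⊗ X := lift μ[X] (snd X X)
  have hmul : μ[X] = fst X X * snd X X := by
    show _ = lift (fst X X) (snd X X) ≫ μ
    rw [lift_fst_snd, Category.id_comp]
  haveI : IsIso sh := by
    refine ⟨lift (fst X X * (snd X X)⁻¹) (snd X X), ?_, ?_⟩
    · apply CartesianMonoidalCategory.hom_ext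
      · simp only [Category.assoc, lift_fst, MonObj.comp_mul, GrpObj.comp_inv, lift_snd, sh, Category.id_comp]
        rw [hmul, mul_inv_cancel_right]
      · simp [sh]
    · apply CartesianMonoidalCategory.hom_ext
      · simp only [Category.assoc, lift_fst, sh, Category.id_comp]
        rw [hmul, MonObj.comp_mul, lift_fst, lift_snd, inv_mul_cancel_right]
      · simp [sh]
  haveI : IsIso sh.left := inferInstanceAs (IsIso ((Over.forget S).map sh))
  haveI : Smooth (fst X X).left :=
    MorphismProperty.pullback_fst (P := @Smooth) X.hom X.hom inferInstance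
  have hμ : μ[X].left = sh.left ≫ (fst X X).left := by
    rw [← Over.comp_left _ _ _ sh (fst X X)]
    simp [sh]
  haveI : Smooth μ[X].left := by rw [hμ]; infer_instance
  have huu : (u ⊗ₘ u).left ≫ (fst X X).left = (fst Uo Uo).left ≫ U.ι :=
    ((Over.comp_left _ _ _ _ _).symm.trans (congrArg CommaMorphism.left (tensorHom_fst u u))).trans (Over.comp_left _ _ _ _ _)
  have huu' : (u ⊗ₘ u).left ≫ (snd X X).left = (snd Uo Uo).left ≫ U.ι :=
    ((Over.comp_left _ _ _ _ _).symm.trans (congrArg CommaMorphism.left (tensorHom_snd u u))).trans (Over.comp_left _ _ _ _ _)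
  have huv : (u ⊗ₘ u).left =
      pullback.map (U.ι ≫ X.hom) (U.ι ≫ X.hom) X.hom X.hom U.ι U.ι (𝟙 S) (by simp) (by simp) := by
    apply pullback.hom_ext
    · exact huu.trans (pullback.lift_fst _ _ _).symm
    · exact huu'.trans (pullback.lift_snd _ _ _).symm
  haveI : IsOpenImmersion (u ⊗ₘ u).left := by rw [huv]; infer_instance
  let M : (Uo ⊗ Uo).left ⟶ X.left := (u ⊗ₘ u).left ≫ μ[X].left
  haveI : Surjective M := ⟨fun x => by
    obtain ⟨p, hp1, hp2, hp⟩ := Neutral.exists_mul_neutral (G := X) (x := x) (hX ▸ Set.mem_univ x) U (hU _)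
    have : p ∈ Set.range (pullback.map (U.ι ≫ X.hom) (U.ι ≫ X.hom) X.hom X.hom U.ι U.ι (𝟙 S) (by simp) (by simp)) := by
      rw [Scheme.Pullback.range_map, Scheme.Opens.range_ι]
      exact ⟨hp1.1, hp2.1⟩
    rw [← huv] at this
    obtain ⟨q, hq⟩ := this
    exact ⟨q, by rw [Scheme.Hom.comp_apply, hq]; exact hp⟩⟩
  haveI : Flat M := inferInstance
  haveI : LocallyOfFinitePresentation M := inferInstance
  haveI : Mono i.left := inferInstance
  let L : (Uo ⊗ Uo).left ⟶ Y.left := ((lY ⊗ₘ lY) ≫ μ[Y]).left
  have hL : L ≫ i.left = M := by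
    show ((lY ⊗ₘ lY) ≫ μ[Y]).left ≫ i.left = (u ⊗ₘ u).left ≫ μ[X].left
    rw [← Over.comp_left _ _ _ ((lY ⊗ₘ lY) ≫ μ[Y]) i, ← Over.comp_left _ _ _ (u ⊗ₘ u) μ[X], Category.assoc,
      IsMonHom.mul_hom, ← Category.assoc, tensorHom_comp_tensorHom, hlY]
  haveI : IsSplitEpi (pullback.fst M i.left) :=
    ⟨⟨pullback.lift (𝟙 _) L (by rw [Category.id_comp, hL]), pullback.lift_fst _ _ _⟩⟩
  haveI : IsIso (pullback.fst M i.left) := isIso_of_mono_of_isSplitEpi _
  exact MorphismProperty.of_pullback_fst_of_descendsAlong (P := MorphismProperty.isomorphisms Scheme.{u})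
    (Q := @Surjective ⊓ @Flat ⊓ @LocallyOfFinitePresentation) (f := M) (g := i.left)
    ⟨⟨inferInstance, inferInstance⟩, inferInstance⟩ (inferInstanceAs (IsIso (pullback.fst M i.left)))

/-- Being the whole group and containing the whole group are the same. -/
theorem good_iff_isIso {X Y : Over S} (i : Y ⟶ X) [Mono i] {T : Scheme.{u}} (q : T ⟶ S) :
    GrpSchLib.Good X.hom i.left q ↔ IsIso ((Over.pullback q).map i).left := by
  haveI : Mono ((Over.pullback q).map i) := inferInstance
  haveI : Mono ((Over.pullback q).map i).left := inferInstance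
  constructor
  · rintro ⟨l, hl⟩
    have h1 : ((pullbackSymmetry X.hom q).hom ≫ l) ≫ Y.hom = pullback.snd X.hom q ≫ q := by
      rw [← Over.w i, Category.assoc, reassoc_of% hl, pullbackSymmetry_hom_comp_snd_assoc, pullback.condition]
    haveI : IsSplitEpi ((Over.pullback q).map i).left :=
      ⟨⟨pullback.lift ((pullbackSymmetry X.hom q).hom ≫ l) (pullback.snd X.hom q) h1, by
        apply pullback.hom_ext
        · refine (Category.assoc _ _ _).trans ((congrArg (_ ≫ ·) (pullback.lift_fst _ _ _)).trans ?_)
          rw [pullback.lift_fst_assoc, Category.assoc, hl, pullbackSymmetry_hom_comp_snd]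
          exact (Category.id_comp _).symm
        · refine (Category.assoc _ _ _).trans ((congrArg (_ ≫ ·) (pullback.lift_snd _ _ _)).trans ?_)
          exact (pullback.lift_snd _ _ _).trans (Category.id_comp _).symm⟩⟩
    exact isIso_of_mono_of_isSplitEpi _
  · intro h
    have h1 : CategoryTheory.inv ((Over.pullback q).map i).left ≫ pullback.fst Y.hom q ≫ i.left = pullback.fst X.hom q := by
      rw [IsIso.inv_comp_eq]; exact (pullback.lift_fst _ _ _).symm
    refine ⟨(pullbackSymmetry X.hom q).inv ≫ CategoryTheory.inv ((Over.pullback q).map i).left ≫ pullback.fst Y.hom q, ?_⟩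
    rw [Category.assoc, Category.assoc, h1, pullbackSymmetry_inv_comp_fst]

/-- On an affine base the locus is cut out by a finitely generated ideal. -/
theorem exists_hasIdeal (X Y : Over S) [GrpObj X] [GrpObj Y] [Smooth X.hom] [QuasiCompact X.hom]
    [QuasiSeparated X.hom] (hX : SGA3x.neutralSet X = Set.univ)
    [LocallyOfFinitePresentation Y.hom] [QuasiCompact Y.hom] [QuasiSeparated Y.hom]
    (i : Y ⟶ X) [IsMonHom i] [Mono i] {A : Type u} [CommRing A] (a : Spec (CommRingCat.of A) ⟶ S) :
    ∃ I : Ideal A, GrpSchLib.HasIdeal X.hom i.left a I ∧ I.FG := by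
  let X' := Red.bc a X
  let Y' := Red.bc a Y
  let i' : Y' ⟶ X' := (Over.pullback a).map i
  haveI : IsMonHom i' := inferInstanceAs (IsMonHom ((Over.pullback a).map i))
  haveI : Mono i' := inferInstanceAs (Mono ((Over.pullback a).map i))
  haveI : Smooth X'.hom := MorphismProperty.pullback_snd (P := @Smooth) X.hom a inferInstance
  haveI : QuasiCompact X'.hom := MorphismProperty.pullback_snd (P := @QuasiCompact) X.hom a inferInstance
  haveI : QuasiSeparated X'.hom := MorphismProperty.pullback_snd (P := @QuasiSeparated) X.hom a inferInstance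
  haveI : LocallyOfFinitePresentation Y'.hom :=
    MorphismProperty.pullback_snd (P := @LocallyOfFinitePresentation) Y.hom a inferInstance
  haveI : QuasiCompact Y'.hom := MorphismProperty.pullback_snd (P := @QuasiCompact) Y.hom a inferInstance
  haveI : QuasiSeparated Y'.hom := MorphismProperty.pullback_snd (P := @QuasiSeparated) Y.hom a inferInstance
  haveI : LocallyOfFinitePresentation (i'.left ≫ X'.hom) := by rw [Over.w i']; infer_instance
  haveI : QuasiCompact (i'.left ≫ X'.hom) := by rw [Over.w i']; infer_instance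
  haveI : QuasiSeparated (i'.left ≫ X'.hom) := by rw [Over.w i']; infer_instance
  have hX' : SGA3x.neutralSet X' = Set.univ := by
    rw [GrpSchLib.Neutral.neutralSet_bc X a, hX, Set.preimage_univ]
  let e' : Spec (CommRingCat.of A) ⟶ Y'.left := η[Y'].left
  have he' : e' ≫ i'.left ≫ X'.hom = 𝟙 _ := by rw [Over.w i']; exact Over.w η[Y']
  have hei : e' ≫ i'.left = η[X'].left := by
    show η[Y'].left ≫ i'.left = η[X'].left
    rw [← Over.comp_left _ _ _ η[Y'] i', IsMonHom.one_hom]
  obtain ⟨Z₀, z₀, hz₀, hz₀fp, hmax, U, l, hl, hU⟩ := exists_locus X'.hom i'.left e' he'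
  haveI := hz₀
  obtain ⟨I, eI, heI⟩ := IsClosedImmersion.Spec_iff.mp hz₀
  refine ⟨I, fun C _ φ => ?_, ?_⟩
  · let q : Spec (CommRingCat.of C) ⟶ Spec (CommRingCat.of A) := Spec.map (CommRingCat.ofHom φ)
    constructor
    · intro hgood
      -- transfer to the base change
      haveI : Mono i'.left := inferInstance
      obtain ⟨l₁, hl₁⟩ := hgood
      have hw : l₁ ≫ Y.hom = (pullback.fst (q ≫ a) X.hom ≫ q) ≫ a := by
        rw [← Over.w i, reassoc_of% hl₁, Category.assoc, pullback.condition]
      let P₁ : pullback q X'.hom ⟶ pullback (q ≫ a) X.hom :=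
        pullback.lift (pullback.fst _ _) (pullback.snd _ _ ≫ pullback.fst X.hom a) (by
          rw [pullback.condition_assoc, Category.assoc]
          exact congrArg (_ ≫ ·) pullback.condition.symm)
      have hgood' : GrpSchLib.Good X'.hom i'.left q :=
        ⟨pullback.lift (P₁ ≫ l₁) (pullback.fst _ _ ≫ q) (by
          rw [Category.assoc, hw, Category.assoc, Category.assoc, pullback.lift_fst_assoc]), by
          apply pullback.hom_ext
          · refine (Category.assoc _ _ _).trans ((congrArg (_ ≫ ·) (pullback.lift_fst _ _ _)).trans ?_)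
            rw [pullback.lift_fst_assoc, Category.assoc, hl₁, pullback.lift_snd]
          · refine (Category.assoc _ _ _).trans ((congrArg (_ ≫ ·) (pullback.lift_snd _ _ _)).trans ?_)
            refine (pullback.lift_snd _ _ _).trans ?_
            exact pullback.condition⟩
      have hiso := (good_iff_isIso i' q).mp hgood'
      have h2 : IsIso (pullback.map (i'.left ≫ X'.hom) q X'.hom q i'.left (𝟙 _) (𝟙 _) (by simp) (by simp)) := by
        haveI := hiso
        have e : pullback.map (i'.left ≫ X'.hom) q X'.hom q i'.left (𝟙 _) (𝟙 _) (by simp) (by simp) =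
            (pullback.congrHom (Over.w i') rfl).hom ≫ ((Over.pullback q).map i').left := by
          apply pullback.hom_ext
          · refine (pullback.lift_fst _ _ _).trans ?_
            refine Eq.trans ?_ (Category.assoc _ _ _).symm
            refine Eq.trans ?_ (congrArg (_ ≫ ·) (pullback.lift_fst _ _ _).symm)
            rw [pullback.congrHom_hom, pullback.lift_fst_assoc]
            simp
          · refine (pullback.lift_snd _ _ _).trans ?_
            refine Eq.trans ?_ (Category.assoc _ _ _).symm
            refine Eq.trans ?_ (congrArg (_ ≫ ·) (pullback.lift_snd _ _ _).symm)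
            rw [pullback.congrHom_hom]
            exact (pullback.lift_snd _ _ _).symm
        rw [e]; infer_instance
      obtain ⟨w, hw⟩ := hmax _ q h2
      obtain ⟨m', hm'⟩ := Spec.map_surjective (w ≫ eI.hom)
      have h3 : CommRingCat.ofHom φ = CommRingCat.ofHom (Ideal.Quotient.mk I) ≫ m' := by
        apply Spec.map_injective
        rw [Spec.map_comp, hm', Category.assoc, ← heI]
        exact hw.symm
      intro r hr
      rw [RingHom.mem_ker, show φ r = m'.hom (Ideal.Quotient.mk I r) from congrArg (fun m => m.hom r) h3,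
        Ideal.Quotient.eq_zero_iff_mem.mpr hr, map_zero]
    · intro hle
      let ω : Spec (CommRingCat.of C) ⟶ Z₀ :=
        Spec.map (CommRingCat.ofHom (Ideal.Quotient.lift I φ fun r hr => hle hr)) ≫ eI.inv
      have hω : ω ≫ z₀ = q := by
        show (_ ≫ eI.inv) ≫ z₀ = q
        rw [heI, Category.assoc, eI.inv_hom_id_assoc, ← Spec.map_comp]
        rfl
      rw [show Spec.map (CommRingCat.ofHom φ) ≫ a = ω ≫ z₀ ≫ a by rw [← Category.assoc, hω]]
      refine GrpSchLib.Good.comp _ _ ?_ ω
      let XZ := Red.bc z₀ X'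
      let YZ := Red.bc z₀ Y'
      let iZ : YZ ⟶ XZ := (Over.pullback z₀).map i'
      haveI : IsMonHom iZ := inferInstanceAs (IsMonHom ((Over.pullback z₀).map i'))
      haveI : Mono iZ := inferInstanceAs (Mono ((Over.pullback z₀).map i'))
      haveI : Smooth XZ.hom := MorphismProperty.pullback_snd (P := @Smooth) X'.hom z₀ inferInstance
      have hXZ : SGA3x.neutralSet XZ = Set.univ := by
        rw [GrpSchLib.Neutral.neutralSet_bc X' z₀, hX', Set.preimage_univ]
      let lZ : (U : Scheme.{u}) ⟶ YZ.left := pullback.lift l (U.ι ≫ pullback.snd X'.hom z₀) (by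
        rw [← Over.w i', reassoc_of% hl, pullback.condition, Category.assoc])
      have hlZ : lZ ≫ iZ.left = U.ι := by
        apply pullback.hom_ext
        · refine (Category.assoc _ _ _).trans ((congrArg (_ ≫ ·) (pullback.lift_fst _ _ _)).trans ?_)
          rw [pullback.lift_fst_assoc, hl]
        · refine (Category.assoc _ _ _).trans ((congrArg (_ ≫ ·) (pullback.lift_snd _ _ _)).trans ?_)
          exact pullback.lift_snd _ _ _
      have hunit : ∀ p, GrpSchLib.Neutral.unit XZ p ∈ U := fun p => by
        refine hU ⟨p, ?_⟩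
        refine congrArg (fun m : Z₀ ⟶ pullback X'.hom z₀ => m p) ?_
        apply pullback.hom_ext
        · rw [pullback.lift_fst, hei]
          refine Eq.symm ?_
          show ((Functor.LaxMonoidal.ε (Over.pullback z₀)) ≫ (Over.pullback z₀).map η[X']).left ≫ pullback.fst X'.hom z₀ = _
          rw [Over.comp_left, Category.assoc]
          refine (congrArg (_ ≫ ·) (pullback.lift_fst _ _ _)).trans ?_
          rw [← Category.assoc]
          refine congrArg (· ≫ η[X'].left) ?_
          have hw := Over.w (Functor.LaxMonoidal.ε (Over.pullback z₀))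
          simpa [pullback.condition] using hw =≫ z₀
        · rw [pullback.lift_snd]
          exact (Over.w η[XZ]).symm
      have hiso := isIso_of_open_lift XZ YZ hXZ iZ U lZ hlZ hunit
      obtain ⟨l₂, hl₂⟩ := (good_iff_isIso i' z₀).mpr hiso
      let P₂ : pullback (z₀ ≫ a) X.hom ⟶ pullback z₀ X'.hom :=
        pullback.lift (pullback.fst _ _) (pullback.lift (pullback.snd _ _) (pullback.fst _ _ ≫ z₀)
          (by rw [Category.assoc]; exact pullback.condition.symm)) (pullback.lift_snd _ _ _).symm
      refine ⟨P₂ ≫ l₂ ≫ pullback.fst Y.hom a, ?_⟩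
      have h4 : pullback.fst Y.hom a ≫ i.left = i'.left ≫ pullback.fst X.hom a := (pullback.lift_fst _ _ _).symm
      rw [Category.assoc, Category.assoc, h4, reassoc_of% hl₂, pullback.lift_snd_assoc, pullback.lift_fst]
  · rw [← GrpSchLib.locallyOfFinitePresentation_specQuotient]
    have : LocallyOfFinitePresentation (eI.hom ≫ Spec.map (CommRingCat.ofHom (Ideal.Quotient.mk I))) := by
      rw [← heI]; exact hz₀fp
    exact (MorphismProperty.cancel_left_of_respectsIso @LocallyOfFinitePresentation eI.hom _).mp this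

/-- A subgroup of finite presentation of a smooth group with connected fibres is the whole group exactly over a
closed subscheme of finite presentation. -/
theorem exists_weilRestriction_subgroup (X Y : Over S) [GrpObj X] [GrpObj Y] [Smooth X.hom] [QuasiCompact X.hom]
    [QuasiSeparated X.hom] (hX : SGA3x.neutralSet X = Set.univ)
    [LocallyOfFinitePresentation Y.hom] [QuasiCompact Y.hom] [QuasiSeparated Y.hom]
    (i : Y ⟶ X) [IsMonHom i] [Mono i] :
    ∃ (T : Scheme.{u}) (t : T ⟶ S), IsClosedImmersion t ∧ LocallyOfFinitePresentation t ∧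
      ∀ (S' : Scheme.{u}) (g : S' ⟶ S), (∃ g' : S' ⟶ T, g' ≫ t = g) ↔ GrpSchLib.Good X.hom i.left g := by
  haveI : Mono i.left := inferInstance
  obtain ⟨Z, z, hz, hu⟩ := GrpSchLib.exists_weilRestriction (π := X.hom) (i := i.left) fun U => by
    obtain ⟨I, hI, -⟩ := exists_hasIdeal X Y hX i (A := Γ(S, U.1)) U.2.fromSpec
    exact ⟨I, hI⟩
  haveI := hz
  refine ⟨Z, z, hz, GrpSchLib.locallyOfFinitePresentation_of_hasIdeal hu fun x => ?_, hu⟩
  obtain ⟨W, hW, hxW, -⟩ := exists_isAffineOpen_mem_and_subset (show x ∈ (⊤ : S.Opens) from trivial)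
  obtain ⟨I, hI, hfg⟩ := exists_hasIdeal X Y hX i (A := Γ(S, W)) hW.fromSpec
  exact ⟨Γ(S, W), inferInstance, hW.fromSpec, inferInstance, hW.range_fromSpec.ge hxW, I, hI, hfg⟩

theorem neutralSet_eq_univ (X : Over S) [GrpObj X] (hconn : ∀ s : S, _root_.IsConnected (X.hom.base ⁻¹' {s})) :
    SGA3x.neutralSet X = Set.univ := by
  refine Set.eq_univ_of_forall fun x => Set.mem_iUnion.mpr ⟨X.hom x, ?_⟩
  exact (hconn (X.hom x)).isPreconnected.subset_connectedComponentIn
    (GrpSchLib.Neutral.hom_unit X (X.hom x)) subset_rfl rfl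

end Groth.Agent.Deform.InfNbhd
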