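import Mathlib

/-!
# Infinitesimal neighbourhoods of a section of a formally smooth algebra are projective
-/

set_option autoImplicit false
set_option linter.style.haveILetI false

universe u

open MvPolynomial

namespace Groth.Agent.Deform.InfNbhd

variable {A B : Type u} [CommRing A] [CommRing B] [Algebra A B] (ε : B →ₐ[A] A)

/-- Polynomials truncated in degree `n` form a projective module. -/
theorem projective_trunc (σ : Type) (n : ℕ) :
    Module.Projective A (MvPolynomial σ A ⧸ idealOfVars σ A ^ n) := by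
  classical
  let I := idealOfVars σ A ^ n
  let τ : MvPolynomial σ A →ₗ[A] MvPolynomial σ A :=
    (basisMonomials σ A).constr A fun d => if d.degree < n then monomial d 1 else 0
  have hτd : ∀ d : σ →₀ ℕ, τ (monomial d 1) = if d.degree < n then monomial d 1 else 0 := fun d => by
    conv_lhs => rw [show monomial d (1 : A) = basisMonomials σ A d by rw [coe_basisMonomials]]
    exact Module.Basis.constr_basis _ _ _ _
  have hτI : ∀ z ∈ I, τ z = 0 := fun z hz => by
    rw [as_sum z, map_sum]
    refine Finset.sum_eq_zero fun d hd => ?_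
    rw [show monomial d (coeff d z) = coeff d z • monomial d (1 : A) by rw [smul_monomial, smul_eq_mul, mul_one],
      map_smul, hτd, if_neg (not_lt.mpr ((mem_pow_idealOfVars_iff n z).mp hz d hd)), smul_zero]
  have hτ : ∀ z, z - τ z ∈ I := fun z => by
    induction z using MvPolynomial.induction_on' with
    | monomial d a =>
      rw [show monomial d a = a • monomial d (1 : A) by rw [smul_monomial, smul_eq_mul, mul_one], map_smul, hτd,
        ← smul_sub]
      refine Submodule.smul_of_tower_mem _ _ ?_
      split_ifs with h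
      · simp
      · rw [sub_zero, mem_pow_idealOfVars_iff]
        intro x hx
        rw [Finset.mem_singleton.mp (Finsupp.support_single_subset hx)]
        omega
    | add p q hp hq => rw [map_add, add_sub_add_comm]; exact add_mem hp hq
  let π : MvPolynomial σ A →ₗ[A] MvPolynomial σ A ⧸ I := (Ideal.Quotient.mkₐ A I).toLinearMap
  let s : (MvPolynomial σ A ⧸ I) →ₗ[A] MvPolynomial σ A :=
    (Submodule.liftQ (I.restrictScalars A) τ fun z hz => hτI z hz).comp
      (Submodule.Quotient.restrictScalarsEquiv A I).symm.toLinearMap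
  have hs : π.comp s = LinearMap.id := LinearMap.ext fun z => by
    obtain ⟨z, rfl⟩ := Ideal.Quotient.mk_surjective z
    exact (Ideal.Quotient.eq.mpr (hτ z)).symm
  exact Module.Projective.of_split s π hs

/-- The infinitesimal neighbourhoods of a section of a formally smooth algebra are projective modules. -/
theorem projective_quotient [Algebra.FormallySmooth A B] (hP : (RingHom.ker ε).FG) (n : ℕ) :
    Module.Projective A (B ⧸ RingHom.ker ε ^ n) := by
  classical
  let P := RingHom.ker ε
  obtain ⟨r, y, hy⟩ := Submodule.fg_iff_exists_fin_generating_family.mp hP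
  have hy' : ∀ i, y i ∈ P := fun i => by
    rw [show P = _ from hy.symm]; exact Submodule.subset_span ⟨i, rfl⟩
  let ev : MvPolynomial (Fin r) A →ₐ[A] B := aeval y
  have hev : ∀ k : ℕ, ∀ z ∈ P ^ k, ∃ p, z - ev p ∈ P ^ (k + 1) := by
    intro k
    induction k with
    | zero =>
      intro z _
      refine ⟨C (ε z), ?_⟩
      rw [pow_one]
      show ε (z - ev (C (ε z))) = 0
      simp [ev]
    | succ k ih =>
      intro z hz
      rw [pow_succ] at hz
      refine Submodule.mul_induction_on hz (fun u hu w hw => ?_) fun a b ⟨p, hp⟩ ⟨q, hq⟩ =>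
        ⟨p + q, by rw [map_add, add_sub_add_comm]; exact add_mem hp hq⟩
      obtain ⟨p, hp⟩ := ih u hu
      have hw' : w ∈ Submodule.span B (Set.range y) := by rw [hy]; exact hw
      obtain ⟨c, rfl⟩ := Ideal.mem_span_range_iff_exists_fun.mp hw'
      refine ⟨p * ∑ i, C (ε (c i)) * X i, ?_⟩
      have e : u * (∑ i, c i * y i) - ev (p * ∑ i, C (ε (c i)) * X i) =
          (u - ev p) * (∑ i, c i * y i) + ev p * ∑ i, (c i - algebraMap A B (ε (c i))) * y i := by
        simp only [ev, map_mul, map_sum, aeval_C, aeval_X, sub_mul, Finset.sum_sub_distrib]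
        ring
      rw [e]
      refine add_mem ?_ ?_
      · rw [pow_succ]
        exact Ideal.mul_mem_mul hp (Ideal.sum_mem _ fun i _ => Ideal.mul_mem_left _ _ (hy' i))
      · have hpk : ev p ∈ P ^ k := by
          have h1 : u - ev p ∈ P ^ k := Ideal.pow_le_pow_right (Nat.le_succ k) hp
          have h2 := sub_mem hu h1
          rwa [sub_sub_cancel] at h2
        rw [show k + 1 + 1 = k + 2 from rfl, pow_add]
        refine Ideal.mul_mem_mul hpk ?_
        rw [pow_two]
        refine Ideal.sum_mem _ fun i _ => Ideal.mul_mem_mul ?_ (hy' i)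
        show ε (c i - algebraMap A B (ε (c i))) = 0
        simp
  have hev' : ∀ k, ∀ z : B, ∃ p, z - ev p ∈ P ^ k := by
    intro k
    induction k with
    | zero => exact fun z => ⟨0, by simp⟩
    | succ k ih =>
      intro z
      obtain ⟨p, hp⟩ := ih z
      obtain ⟨q, hq⟩ := hev k _ hp
      exact ⟨p + q, by rw [map_add, ← sub_sub]; exact hq⟩
  let I := idealOfVars (Fin r) A
  let R := MvPolynomial (Fin r) A ⧸ I ^ n
  have hI : ∀ z ∈ I, ev z ∈ P := by
    intro z hz
    refine Submodule.span_induction ?_ (by simp) (fun a b _ _ ha hb => by rw [map_add]; exact add_mem ha hb)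
      (fun a b _ hb => by rw [smul_eq_mul, map_mul]; exact Ideal.mul_mem_left _ _ hb) hz
    rintro _ ⟨i, rfl⟩
    show ev (X i) ∈ P
    rw [show ev (X i) = y i from aeval_X _ _]
    exact hy' i
  have hIn : I ^ n ≤ (P ^ n).comap ev.toRingHom := by
    refine le_trans (Ideal.pow_right_mono (show I ≤ P.comap ev.toRingHom from hI) n) ?_
    exact Ideal.le_comap_pow _ n
  let ψ : R →ₐ[A] B ⧸ P ^ n := Ideal.Quotient.liftₐ (I ^ n) ((Ideal.Quotient.mkₐ A (P ^ n)).comp ev) fun z hz =>
    Ideal.Quotient.eq_zero_iff_mem.mpr (hIn hz)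
  have hψ : Function.Surjective ψ := fun z => by
    obtain ⟨z, rfl⟩ := Ideal.Quotient.mk_surjective z
    obtain ⟨p, hp⟩ := hev' n z
    exact ⟨Ideal.Quotient.mk _ p, (Ideal.Quotient.eq.mpr hp).symm⟩
  rcases n with _ | n
  · haveI : Subsingleton (B ⧸ RingHom.ker ε ^ 0) :=
      Ideal.Quotient.subsingleton_iff.mpr (by rw [pow_zero, Ideal.one_eq_top])
    infer_instance
  have hker : RingHom.ker (ψ : R →+* B ⧸ P ^ (n + 1)) ≤ I.map (Ideal.Quotient.mk (I ^ (n + 1))) := by
    intro z hz
    obtain ⟨z, rfl⟩ := Ideal.Quotient.mk_surjective z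
    have h1 : ev z ∈ P := Ideal.pow_le_self n.succ_ne_zero (Ideal.Quotient.eq_zero_iff_mem.mp hz)
    refine Ideal.mem_map_of_mem _ ?_
    rw [← pow_one I, mem_pow_idealOfVars_iff']
    intro d hd
    rw [Finsupp.degree_eq_zero_iff d |>.mp (by omega)]
    have h2 : (aeval (R := A) fun _ => (0 : A)) z = 0 := by
      rw [show (aeval (R := A) fun _ => (0 : A)) = ε.comp ev from algHom_ext fun i => by
        simp [ev, RingHom.mem_ker.mp (hy' i)]]
      exact h1
    rwa [aeval_zero', Algebra.algebraMap_self_apply, constantCoeff_eq] at h2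
  have hnil : IsNilpotent (RingHom.ker (ψ : R →+* B ⧸ P ^ (n + 1))) := by
    refine ⟨n + 1, le_bot_iff.mp ((Ideal.pow_right_mono hker (n + 1)).trans ?_)⟩
    rw [← Ideal.map_pow, Ideal.map_quotient_self]
  let φ := Algebra.FormallySmooth.liftOfSurjective (Ideal.Quotient.mkₐ A (P ^ (n + 1))) ψ hψ hnil
  have hφ : ∀ b, ψ (φ b) = Ideal.Quotient.mk _ b := fun b =>
    Algebra.FormallySmooth.liftOfSurjective_apply _ _ _ _ b
  have hφP : P ^ (n + 1) ≤ RingHom.ker φ := by
    have h1 : P ≤ (I.map (Ideal.Quotient.mk (I ^ (n + 1)))).comap φ := by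
      intro b hb
      obtain ⟨z, hz⟩ := Ideal.Quotient.mk_surjective (φ b)
      rw [Ideal.mem_comap, ← hz]
      refine Ideal.mem_map_of_mem _ ?_
      have h2 : Ideal.Quotient.mk (P ^ (n + 1)) (ev z) = Ideal.Quotient.mk _ b := by rw [← hφ b, ← hz]; rfl
      have h3 : ev z ∈ P := by
        have := Ideal.pow_le_self n.succ_ne_zero (Ideal.Quotient.eq.mp h2)
        have h4 := add_mem this hb
        rwa [sub_add_cancel] at h4
      rw [← pow_one I, mem_pow_idealOfVars_iff']
      intro d hd
      rw [Finsupp.degree_eq_zero_iff d |>.mp (by omega)]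
      have h5 : (aeval (R := A) fun _ => (0 : A)) z = 0 := by
        rw [show (aeval (R := A) fun _ => (0 : A)) = ε.comp ev from algHom_ext fun i => by
          simp [ev, RingHom.mem_ker.mp (hy' i)]]
        exact h3
      rwa [aeval_zero', Algebra.algebraMap_self_apply, constantCoeff_eq] at h5
    intro b hb
    have h6 := Ideal.le_comap_pow φ.toRingHom (n + 1) (Ideal.pow_right_mono h1 (n + 1) hb)
    rw [Ideal.mem_comap, ← Ideal.map_pow, Ideal.map_quotient_self] at h6
    exact h6
  let φ' : (B ⧸ P ^ (n + 1)) →ₐ[A] R := Ideal.Quotient.liftₐ _ φ fun b hb => hφP hb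
  haveI := projective_trunc (A := A) (Fin r) (n + 1)
  exact Module.Projective.of_split φ'.toLinearMap ψ.toLinearMap (LinearMap.ext fun z => by
    obtain ⟨z, rfl⟩ := Ideal.Quotient.mk_surjective z
    exact hφ z)

end Groth.Agent.Deform.InfNbhd
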