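import Groth.Agent.Deform.InfNbhd.Group
import Groth.Agent.GrpSchLib.MonoSubgroup
import Groth.Agent.DSPtsLib.Basic
import Groth.Agent.AlgSpPts.Sep

/-!
# Transporters of smooth subgroups with connected fibres (VI_B 6.?, XI 6.11)
-/

set_option autoImplicit false
set_option linter.style.haveILetI false
set_option backward.isDefEq.respectTransparency.types false

universe u

open CategoryTheory CategoryTheory.Limits MonoidalCategory CartesianMonoidalCategory MonObj GrpObj AlgebraicGeometry

attribute [local instance] CategoryTheory.Hom.monoid CategoryTheory.Hom.group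

namespace Groth.Agent.Deform.InfNbhd

/-- The locus over which a homomorphism factors through a subgroup of finite presentation. -/
theorem exists_locus_hom {B : Scheme.{u}} (H P K : Over B) [GrpObj H] [GrpObj P] [GrpObj K] [Smooth H.hom]
    [QuasiCompact H.hom] [QuasiSeparated H.hom] (hH : SGA3x.neutralSet H = Set.univ) (φ : H ⟶ P) [IsMonHom φ]
    (j : K ⟶ P) [IsMonHom j] [Mono j] [LocallyOfFinitePresentation j.left] [QuasiCompact j.left]
    [QuasiSeparated j.left] :
    ∃ (T : Scheme.{u}) (t : T ⟶ B), IsClosedImmersion t ∧ LocallyOfFinitePresentation t ∧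
      ∀ (B' : Scheme.{u}) (g : B' ⟶ B), (∃ g', g' ≫ t = g) ↔
        ∃ l : pullback H.hom g ⟶ K.left, l ≫ j.left = pullback.fst H.hom g ≫ φ.left := by
  let Y := pullback φ j
  let a : Y ⟶ H := pullback.fst φ j
  let b : Y ⟶ K := pullback.snd φ j
  have hab : a ≫ φ = b ≫ j := pullback.condition
  haveI : Mono a := inferInstanceAs (Mono (pullback.fst φ j))
  obtain ⟨str, hmon⟩ := GrpSchLib.exists_grpObj_of_mono a
    (pullback.lift η[H] η[K] (by rw [IsMonHom.one_hom, IsMonHom.one_hom])) (pullback.lift_fst _ _ _)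
    (pullback.lift ((fst Y Y ≫ a) * (snd Y Y ≫ a)) ((fst Y Y ≫ b) * (snd Y Y ≫ b)) (by
      rw [MonObj.mul_comp, MonObj.mul_comp, Category.assoc, Category.assoc, hab, Category.assoc, Category.assoc]))
    (pullback.lift_fst _ _ _)
    (pullback.lift a⁻¹ b⁻¹ (by rw [GrpObj.inv_comp, GrpObj.inv_comp, hab])) (pullback.lift_fst _ _ _)
  letI := str
  haveI := hmon
  have hsq : IsPullback a.left b.left φ.left j.left := (IsPullback.of_hasPullback φ j).map (Over.forget B)
  haveI : LocallyOfFinitePresentation a.left := MorphismProperty.of_isPullback hsq.flip ‹LocallyOfFinitePresentation j.left›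
  haveI : QuasiCompact a.left := MorphismProperty.of_isPullback hsq.flip ‹QuasiCompact j.left›
  haveI : QuasiSeparated a.left := MorphismProperty.of_isPullback hsq.flip ‹QuasiSeparated j.left›
  haveI : LocallyOfFinitePresentation Y.hom := by rw [← Over.w a]; infer_instance
  haveI : QuasiCompact Y.hom := by rw [← Over.w a]; infer_instance
  haveI : QuasiSeparated Y.hom := by rw [← Over.w a]; infer_instance
  obtain ⟨T, t, ht, htf, hu⟩ := exists_weilRestriction_subgroup H Y hH a
  refine ⟨T, t, ht, htf, fun B' g => (hu B' g).trans ⟨?_, ?_⟩⟩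
  · rintro ⟨l, hl⟩
    refine ⟨(pullbackSymmetry H.hom g).hom ≫ l ≫ b.left, ?_⟩
    rw [Category.assoc, Category.assoc, ← hsq.w, reassoc_of% hl, pullbackSymmetry_hom_comp_snd_assoc]
  · rintro ⟨l, hl⟩
    exact ⟨(pullbackSymmetry H.hom g).inv ≫ hsq.lift (pullback.fst H.hom g) l hl.symm, by
      rw [Category.assoc, hsq.lift_fst, pullbackSymmetry_inv_comp_fst]⟩

section Conj

variable {S : Scheme.{u}} {H G : Over S}

theorem theta_map {T : Scheme.{u}} (b : T ⟶ S) {Y : Over T} (h : Y ⟶ Red.bc b H) (w : H ⟶ G) :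
    DSPtsLib.theta b (h ≫ (Over.pullback b).map w) = DSPtsLib.theta b h ≫ w :=
  (Over.mapPullbackAdj b).homEquiv_naturality_right_symm h w

theorem theta_inv' [GrpObj G] {T : Scheme.{u}} (b : T ⟶ S) {Y : Over T} (a : Y ⟶ Red.bc b G) :
    DSPtsLib.theta b a⁻¹ = (DSPtsLib.theta b a)⁻¹ :=
  map_inv (MonoidHom.mk' (DSPtsLib.theta b (H := G) (Y := Y)) (DSPtsLib.theta_mul b)) a

/-- The transporter of a smooth subgroup with connected fibres into a subgroup of finite presentation. -/
theorem exists_transporter (G H K : Over S) [GrpObj G] [GrpObj H] [GrpObj K] [Smooth H.hom] [QuasiCompact H.hom]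
    [QuasiSeparated H.hom] (hH : SGA3x.neutralSet H = Set.univ) (i : H ⟶ G) [IsMonHom i] (j : K ⟶ G) [IsMonHom j]
    [Mono j] [LocallyOfFinitePresentation j.left] [QuasiCompact j.left] [QuasiSeparated j.left] :
    ∃ (T : Over S) (t : T ⟶ G), IsClosedImmersion t.left ∧ LocallyOfFinitePresentation t.left ∧
      ∀ (X : Over S) (g : X ⟶ G), (∃ x : X ⟶ T, x ≫ t = g) ↔
        ∀ (X' : Over S) (x : X' ⟶ X) (h : X' ⟶ H), ∃ κ : X' ⟶ K, (x ≫ g) * (h ≫ i) * (x ≫ g)⁻¹ = κ ≫ j := by
  let f := G.hom
  let H' := Red.bc f H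
  let G' := Red.bc f G
  let K' := Red.bc f K
  let i' : H' ⟶ G' := (Over.pullback f).map i
  let j' : K' ⟶ G' := (Over.pullback f).map j
  haveI : IsMonHom i' := inferInstanceAs (IsMonHom ((Over.pullback f).map i))
  haveI : IsMonHom j' := inferInstanceAs (IsMonHom ((Over.pullback f).map j))
  haveI : Mono j' := inferInstanceAs (Mono ((Over.pullback f).map j))
  haveI : Smooth H'.hom := MorphismProperty.pullback_snd (P := @Smooth) H.hom f inferInstance
  haveI : QuasiCompact H'.hom := MorphismProperty.pullback_snd (P := @QuasiCompact) H.hom f inferInstance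
  haveI : QuasiSeparated H'.hom := MorphismProperty.pullback_snd (P := @QuasiSeparated) H.hom f inferInstance
  have hH' : SGA3x.neutralSet H' = Set.univ := by
    rw [GrpSchLib.Neutral.neutralSet_bc H f, hH, Set.preimage_univ]
  have hjsq : IsPullback j'.left (pullback.fst K.hom f) (pullback.fst G.hom f) j.left :=
    IsPullback.of_bot (v₁₁ := j'.left) (v₂₁ := pullback.snd G.hom f) (h₁₁ := pullback.fst K.hom f)
      (v₁₂ := j.left) (v₂₂ := G.hom) (h₂₁ := pullback.fst G.hom f) (h₃₁ := f)
      (by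
        rw [show j'.left ≫ pullback.snd G.hom f = pullback.snd K.hom f from pullback.lift_snd _ _ _, Over.w j]
        exact IsPullback.of_hasPullback K.hom f)
      (pullback.lift_fst _ _ _).symm (IsPullback.of_hasPullback G.hom f) |>.flip
  haveI : LocallyOfFinitePresentation j'.left := MorphismProperty.of_isPullback hjsq.flip ‹LocallyOfFinitePresentation j.left›
  haveI : QuasiCompact j'.left := MorphismProperty.of_isPullback hjsq.flip ‹QuasiCompact j.left›
  haveI : QuasiSeparated j'.left := MorphismProperty.of_isPullback hjsq.flip ‹QuasiSeparated j.left›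
  -- the universal point
  let g₀ : 𝟙_ (Over G.left) ⟶ G' := Over.homMk (pullback.lift (𝟙 G.left) (𝟙 G.left) rfl) (pullback.lift_snd _ _ _)
  let c : H' ⟶ G' := toUnit H' ≫ g₀
  let φ : H' ⟶ G' := c * i' * c⁻¹
  have hφ : ∀ {Y : Over G.left} (q : Y ⟶ H'), q ≫ φ = (toUnit Y ≫ g₀) * (q ≫ i') * (toUnit Y ≫ g₀)⁻¹ := fun q => by
    simp only [φ, c, MonObj.comp_mul, GrpObj.comp_inv, ← Category.assoc, toUnit_unique (q ≫ toUnit H') (toUnit _)]
  haveI : IsMonHom φ :=
    { one_hom := by
        rw [hφ, IsMonHom.one_hom]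
        rw [show (η[G'] : 𝟙_ (Over G.left) ⟶ G') = 1 by rw [Hom.one_def, toUnit_unique (toUnit _) (𝟙 _), Category.id_comp]]
        simp
      mul_hom := by
        rw [hφ, IsMonHom.mul_hom]
        have h1 : (φ ⊗ₘ φ) ≫ μ[G'] = (fst H' H' ≫ φ) * (snd H' H' ≫ φ) := by
          rw [Hom.mul_def]
          congr 1
        have h2 : (i' ⊗ₘ i') ≫ μ[G'] = (fst H' H' ≫ i') * (snd H' H' ≫ i') := by
          rw [Hom.mul_def]
          congr 1
        rw [h1, h2, hφ, hφ]
        group }
  obtain ⟨T, t, ht, htf, hu⟩ := exists_locus_hom H' G' K' hH' φ j'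
  -- conjugation through theta
  have hθg : ∀ Y : Over G.left, (DSPtsLib.theta f (toUnit Y ≫ g₀)).left = Y.hom := fun Y => by
    rw [DSPtsLib.theta_left, Over.comp_left, Category.assoc]
    refine (congrArg (_ ≫ ·) (pullback.lift_fst _ _ _)).trans ?_
    exact Over.w (toUnit Y)
  have hθφ : ∀ (Y : Over G.left) (q : Y ⟶ H'), DSPtsLib.theta f (q ≫ φ) =
      DSPtsLib.theta f (toUnit Y ≫ g₀) * (DSPtsLib.theta f q ≫ i) * (DSPtsLib.theta f (toUnit Y ≫ g₀))⁻¹ := fun Y q => by
    rw [hφ, DSPtsLib.theta_mul, DSPtsLib.theta_mul, theta_inv', theta_map]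
  refine ⟨Over.mk (t ≫ G.hom), Over.homMk t rfl, ht, htf, fun X g => ⟨?_, fun hall => ?_⟩⟩
  · rintro ⟨x₀, hx₀⟩ X' x h
    obtain ⟨l, hl⟩ := (hu X.left g.left).mp ⟨x₀.left, congrArg CommaMorphism.left hx₀⟩
    let Y : Over G.left := Over.mk (x ≫ g).left
    let e : X' ⟶ (Over.map f).obj Y := Over.homMk (𝟙 _) ((Category.id_comp _).trans (Over.w (x ≫ g)))
    let e' : (Over.map f).obj Y ⟶ X' := Over.homMk (𝟙 _) ((Category.id_comp _).trans (Over.w (x ≫ g)).symm)
    obtain ⟨q, hq⟩ := (DSPtsLib.theta_bijective f).surjective (e' ≫ h)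
    let w : Y.left ⟶ pullback H'.hom g.left := pullback.lift q.left x.left ((Over.w q).trans (Over.comp_left _ _ _ x g))
    let κ' : Y ⟶ K' := Over.homMk (w ≫ l) (by
      rw [Category.assoc]
      have h5 : l ≫ K'.hom = pullback.fst H'.hom g.left ≫ H'.hom := by
        rw [← Over.w j', reassoc_of% hl, Over.w φ]
      rw [h5, pullback.lift_fst_assoc, Over.w q])
    have hκ' : q ≫ φ = κ' ≫ j' := Over.OverMorphism.ext (by
      show q.left ≫ φ.left = (w ≫ l) ≫ j'.left
      rw [Category.assoc, hl, pullback.lift_fst_assoc])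
    refine ⟨e ≫ DSPtsLib.theta f κ', ?_⟩
    have h6 := congrArg (fun m => e ≫ DSPtsLib.theta f m) hκ'
    simp only [hθφ, theta_map, MonObj.comp_mul, GrpObj.comp_inv] at h6
    have e1 : e ≫ DSPtsLib.theta f (toUnit Y ≫ g₀) = x ≫ g := Over.OverMorphism.ext (by
      show 𝟙 _ ≫ _ = _
      rw [Category.id_comp]
      exact hθg Y)
    have e2 : e ≫ DSPtsLib.theta f q ≫ i = h ≫ i := by
      rw [hq, ← Category.assoc, ← Category.assoc]
      congr 1
    rw [e1, e2] at h6
    rw [h6, Category.assoc]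
    exact congrArg (e ≫ ·) (theta_map f κ' j)
  · -- the universal test
    let P := pullback H'.hom g.left
    let Y : Over G.left := Over.mk (pullback.snd H'.hom g.left ≫ g.left)
    let q : Y ⟶ H' := Over.homMk (pullback.fst H'.hom g.left) pullback.condition
    let xm : (Over.map f).obj Y ⟶ X := Over.homMk (pullback.snd H'.hom g.left) (by
      show pullback.snd H'.hom g.left ≫ X.hom = (pullback.snd H'.hom g.left ≫ g.left) ≫ f
      rw [Category.assoc, Over.w g])
    obtain ⟨κ, hκ⟩ := hall _ xm (DSPtsLib.theta f q)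
    obtain ⟨κ', hκ'⟩ := (DSPtsLib.theta_bijective f).surjective κ
    have e1 : xm ≫ g = DSPtsLib.theta f (toUnit Y ≫ g₀) := Over.OverMorphism.ext (hθg Y).symm
    have h7 : q ≫ φ = κ' ≫ j' := by
      apply (DSPtsLib.theta_bijective f).injective
      rw [hθφ, theta_map, hκ', ← e1]
      exact hκ
    obtain ⟨g', hg'⟩ := (hu X.left g.left).mpr ⟨κ'.left, (congrArg CommaMorphism.left h7).symm⟩
    exact ⟨Over.homMk g' (by show g' ≫ t ≫ G.hom = X.hom; rw [← Category.assoc, hg', Over.w g]),
      Over.OverMorphism.ext hg'⟩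

end Conj

end Groth.Agent.Deform.InfNbhd
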